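import Cfsg.Agent.Lib.Perm.UnitFour.FullPoint

/-!
Multiplicities of the characters of the radical at a line: constancy on classes and their sums.
-/

set_option autoImplicit false
set_option linter.unusedSectionVars false

namespace CfsgLib.Perm.UnitFour

open scoped Matrix
open Matrix Module CfsgLib.SU CfsgLib.PGroup.UnitIndex

variable {F : Type*} [Field F] [Fintype F] {q : ℕ} {C : UCtx F q}

/-- The quadratic form on triples. -/
def disc (d : Tri C) : F := (d.1 : F) * d.2.2 + d.2.1 * C.bar d.2.1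

theorem disc_fixed (d : Tri C) : C.bar (disc d) = disc d := by
  simp only [disc, map_add, map_mul, C.bar_bar, bar_zset d.1.2, bar_zset d.2.2.2]; ring

theorem disc_mid (β : F) : disc ((0, β, 0) : Tri C) = β * C.bar β := by simp [disc]

variable {Φ : QFrame C}

theorem disc_up (r : F) (d : Tri C) : disc ((Sym.up Φ r).φ d) = disc d := by
  obtain ⟨h1, h2, h3⟩ := up_φ (Φ := Φ) r d
  simp only [disc, h1, h2, h3, map_sub, map_mul, C.bar_bar, bar_zset d.1.2]; ring

theorem disc_low (r : F) (d : Tri C) : disc ((Sym.low Φ r).φ d) = disc d := by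
  obtain ⟨h1, h2, h3⟩ := low_φ (Φ := Φ) r d
  simp only [disc, h1, h2, h3, map_sub, map_mul, C.bar_bar, bar_zset d.2.2.2]; ring

theorem disc_diag (l : F) (hl : l ≠ 0) (d : Tri C) : disc ((Sym.diag Φ l hl).φ d) = disc d := by
  obtain ⟨h1, h2, h3⟩ := diag_φ (Φ := Φ) l hl d
  have hb : C.bar l ≠ 0 := by simpa using hl
  simp only [disc, h1, h2, h3, map_mul, map_div₀, C.bar_bar]
  field_simp

/-- Multiplication of a triple by a fixed scalar. -/
def scl (r : F) (hr : C.bar r = r) (d : Tri C) : Tri C :=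
  (⟨r * d.1, zset_mul_fixed d.1.2 hr⟩, r * d.2.1, ⟨r * d.2.2, zset_mul_fixed d.2.2.2 hr⟩)

/-- A symmetry preserving the form and commuting with fixed scalars. -/
structure Nice (s : Sym Φ) : Prop where
  disc_eq : ∀ d, disc (s.φ d) = disc d
  scl_eq : ∀ r (hr : C.bar r = r) d, s.φ (scl r hr d) = scl r hr (s.φ d)

theorem nice_up (r : F) : Nice (Sym.up Φ r) := by
  refine ⟨disc_up r, fun c hc d => ?_⟩
  obtain ⟨h1, h2, h3⟩ := up_φ (Φ := Φ) r (scl c hc d)
  obtain ⟨k1, k2, k3⟩ := up_φ (Φ := Φ) r d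
  refine Prod.ext (Subtype.ext ?_) (Prod.ext ?_ (Subtype.ext ?_))
  · rw [h1]; simp only [scl, k1]
  · rw [h2]; simp only [scl, k2]; ring
  · rw [h3]; simp only [scl, k3, map_mul, hc]; ring

theorem nice_low (r : F) : Nice (Sym.low Φ r) := by
  refine ⟨disc_low r, fun c hc d => ?_⟩
  obtain ⟨h1, h2, h3⟩ := low_φ (Φ := Φ) r (scl c hc d)
  obtain ⟨k1, k2, k3⟩ := low_φ (Φ := Φ) r d
  refine Prod.ext (Subtype.ext ?_) (Prod.ext ?_ (Subtype.ext ?_))
  · rw [h1]; simp only [scl, k1, map_mul, hc]; ring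
  · rw [h2]; simp only [scl, k2]; ring
  · rw [h3]; simp only [scl, k3]

theorem nice_diag (l : F) (hl : l ≠ 0) : Nice (Sym.diag Φ l hl) := by
  refine ⟨disc_diag l hl, fun c hc d => ?_⟩
  obtain ⟨h1, h2, h3⟩ := diag_φ (Φ := Φ) l hl (scl c hc d)
  obtain ⟨k1, k2, k3⟩ := diag_φ (Φ := Φ) l hl d
  refine Prod.ext (Subtype.ext ?_) (Prod.ext ?_ (Subtype.ext ?_))
  · rw [h1]; simp only [scl, k1]; ring
  · rw [h2]; simp only [scl, k2]; ring
  · rw [h3]; simp only [scl, k3]; ring

theorem Nice.comp {s t : Sym Φ} (hs : Nice s) (ht : Nice t) : Nice (s.comp t) :=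
  ⟨fun d => by rw [Sym.comp_φ, ht.disc_eq, hs.disc_eq],
    fun r hr d => by rw [Sym.comp_φ, Sym.comp_φ, hs.scl_eq, ht.scl_eq]⟩

theorem exists_ratio {u : F} (hu : u * C.bar u = 1) : ∃ l : F, l ≠ 0 ∧ l / C.bar l = u := by
  by_cases hd1 : u = -1
  · obtain ⟨δ, hδ0, hδ⟩ := C.exists_trace_zero
    exact ⟨δ, hδ0, by rw [bar_zset (C := C) hδ, div_neg, div_self hδ0, hd1]⟩
  · have hne : 1 + u ≠ 0 := fun h => hd1 (by linear_combination h)
    refine ⟨1 + u, hne, ?_⟩
    rw [div_eq_iff (by simpa using (map_ne_zero C.bar).2 hne), map_add, map_one, mul_add, hu]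
    ring

variable (Φ) in
/-- Every anisotropic triple is moved to a given middle one of the same value. -/
theorem exists_sym_mid (d : Tri C) (hd : disc d ≠ 0) {β₀ : F} (h₀ : β₀ * C.bar β₀ = disc d) :
    ∃ s : Sym Φ, Nice s ∧ s.φ d = (0, β₀, 0) := by
  obtain ⟨y, hy⟩ := C.exists_trace (c := (1 : F)) (map_one _)
  -- once the first entry vanishes
  have step : ∀ d : Tri C, (d.1 : F) = 0 → disc d ≠ 0 → β₀ * C.bar β₀ = disc d →
      ∃ s : Sym Φ, Nice s ∧ s.φ d = (0, β₀, 0) := by
    intro d ha hd h₀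
    have hN : disc d = d.2.1 * C.bar d.2.1 := by rw [disc, ha, zero_mul, zero_add]
    rw [hN] at hd h₀
    have hβ : d.2.1 ≠ 0 := left_ne_zero_of_mul hd
    have hu : β₀ / d.2.1 * C.bar (β₀ / d.2.1) = 1 := by
      rw [map_div₀, div_mul_div_comm, h₀, div_self hd]
    obtain ⟨l, hl, hlu⟩ := exists_ratio (C := C) hu
    set r := (d.2.2 : F) * y / d.2.1 with hr
    obtain ⟨h1, h2, h3⟩ := up_φ (Φ := Φ) r d
    obtain ⟨k1, k2, k3⟩ := diag_φ (Φ := Φ) l hl ((Sym.up Φ r).φ d)
    have hb : C.bar d.2.1 * C.bar r = -((d.2.2 : F) * C.bar y) := by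
      rw [hr, map_div₀, map_mul, bar_zset d.2.2.2, neg_mul, mul_div_cancel₀ _ (by simpa using hβ)]
    have hb' : d.2.1 * r = (d.2.2 : F) * y := by rw [hr, mul_div_cancel₀ _ hβ]
    refine ⟨(Sym.up Φ r).comp (Sym.diag Φ l hl), (nice_up r).comp (nice_diag l hl), Prod.ext (Subtype.ext ?_) (Prod.ext ?_ (Subtype.ext ?_))⟩
    · rw [Sym.comp_φ, k1, h1, ha, zero_mul, ZeroMemClass.coe_zero]
    · rw [Sym.comp_φ, k2, h2, ha, zero_mul, sub_zero, hlu, mul_div_cancel₀ _ hβ]
    · rw [Sym.comp_φ, k3, h3, ha, hb, hb', zero_mul, ZeroMemClass.coe_zero, div_eq_zero_iff]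
      left
      linear_combination -(d.2.2 : F) * hy
  by_cases ha : (d.1 : F) = 0
  · exact step d ha hd h₀
  set r := C.bar (d.2.1 / d.1) with hr
  set d1 := (Sym.up Φ r).φ d with hd1
  obtain ⟨h1, h2, -⟩ := up_φ (Φ := Φ) r d
  rw [← hd1] at h1 h2
  have hm : d1.2.1 = 0 := by rw [h2, hr, C.bar_bar, mul_div_cancel₀ _ ha, sub_self]
  have hdd : disc d1 = disc d := disc_up r d
  have hb : (d1.2.2 : F) ≠ 0 := fun h => hd (by rw [← hdd, disc, h, hm]; simp)
  obtain ⟨x, hx⟩ := C.exists_norm (c := -((d1.1 : F) / d1.2.2))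
    (by rw [map_neg, map_div₀, bar_zset d1.1.2, bar_zset d1.2.2.2, neg_div_neg_eq])
  obtain ⟨k1, -, -⟩ := low_φ (Φ := Φ) x d1
  obtain ⟨s, hsn, hs⟩ := step ((Sym.low Φ x).φ d1)
    (by rw [k1, hm, hx, map_zero, zero_mul, zero_mul, add_zero, sub_zero, mul_neg, mul_div_cancel₀ _ hb, add_neg_cancel])
    (by rw [disc_low, hdd]; exact hd) (by rw [disc_low, hdd]; exact h₀)
  exact ⟨((Sym.up Φ r).comp (Sym.low Φ x)).comp s, ((nice_up r).comp (nice_low x)).comp hsn, by rw [Sym.comp_φ, Sym.comp_φ]; exact hs⟩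

variable {X : Type*} [MulAction ↥(Cfsg.SU 4 F q) X]

variable (Φ X) in
/-- The multiplicity of a character of the radical. -/
noncomputable def multA (d : Tri C) : ℕ := mult (Y := AY Φ X) (triPairing C) d

theorem multA_sym (s : Sym Φ) (d : Tri C) : multA Φ X d = multA Φ X (s.φ d) :=
  mult_map s.surj s.hp (π := s.perm) s.perm_vadd d

open _root_.Classical in
variable (C) in
/-- A scalar of given norm. -/
noncomputable def normRoot (c : F) : F := if h : ∃ x, x * C.bar x = c then h.choose else 0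

theorem normRoot_spec {c : F} (hc : C.bar c = c) : normRoot C c * C.bar (normRoot C c) = c := by
  rw [normRoot, dif_pos (C.exists_norm hc)]
  exact (C.exists_norm hc).choose_spec

variable (Φ X) in
/-- The multiplicity of the class of value `c`. -/
noncomputable def classMult (c : F) : ℕ := multA Φ X (0, normRoot C c, 0)

theorem multA_class {d : Tri C} (hd : disc d ≠ 0) : multA Φ X d = classMult Φ X (disc d) := by
  obtain ⟨s, -, hs⟩ := exists_sym_mid Φ d hd (normRoot_spec (disc_fixed d))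
  rw [multA_sym s d, hs, classMult]

/-- The class multiplicities are invariant under squares. -/
theorem classMult_sq {c r : F} (hc : C.bar c = c) (hc0 : c ≠ 0) (hr : C.bar r = r) (hr0 : r ≠ 0) :
    classMult Φ X (c * r ^ 2) = classMult Φ X c := by
  obtain ⟨τ, hτ, hτW⟩ := exists_torus Φ.R hr hr0
  let s : Sym Φ := Sym.ofLine Φ τ 1 0 0 r (by rw [hτW _ ⟨Φ.ew, Φ.ev⟩, one_smul, zero_smul, add_zero])
    (by rw [hτ.1, zero_smul, zero_add])
  have h1 := multA_sym (X := X) s ((0, normRoot C c, 0) : Tri C)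
  have hne : disc (s.φ ((0, normRoot C c, 0) : Tri C)) = c * r ^ 2 := by
    simp only [s, Sym.ofLine, disc, ZeroMemClass.coe_zero, map_one, map_zero, map_neg, map_sub, map_add,
      map_mul, hr]
    linear_combination r ^ 2 * normRoot_spec (C := C) hc
  rw [multA_class (d := s.φ _) (by rw [hne]; exact mul_ne_zero hc0 (pow_ne_zero 2 hr0)), hne] at h1
  exact h1.symm

open _root_.Classical in
variable (C) in
/-- The non-zero fixed scalars. -/
noncomputable def fstar : Finset F := Finset.univ.filter fun c => C.bar c = c ∧ c ≠ 0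

theorem mem_fstar {c : F} : c ∈ fstar C ↔ C.bar c = c ∧ c ≠ 0 := by
  classical
  simp [fstar]

theorem card_fixed (hF : Fintype.card F = q ^ 2) : Nat.card {c : F // C.bar c = c} = q := by
  obtain ⟨δ, hδ0, hδ⟩ := C.exists_trace_zero
  exact (Nat.card_congr (β := zset C)
    { toFun := fun c => ⟨c.1 * δ, zset_mul_fixed hδ c.2⟩
      invFun := fun t => ⟨t.1 / δ, by rw [map_div₀, bar_zset t.2, bar_zset (C := C) hδ, neg_div_neg_eq]⟩
      left_inv := fun c => Subtype.ext (mul_div_cancel_right₀ _ hδ0)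
      right_inv := fun t => Subtype.ext (div_mul_cancel₀ _ hδ0) }).trans (card_zset hF)

theorem card_fstar (hF : Fintype.card F = q ^ 2) : (fstar C).card = q - 1 := by
  classical
  have h := card_fixed (C := C) hF
  rw [Nat.card_eq_fintype_card, Fintype.card_subtype] at h
  have he : fstar C = (Finset.univ.filter fun c => C.bar c = c).erase 0 := by
    ext c; simp [mem_fstar, and_comm]
  rw [he, Finset.card_erase_of_mem (by simp), h]

theorem card_norm_eq (hF : Fintype.card F = q ^ 2) {c : F} (hc : C.bar c = c) (hc0 : c ≠ 0) :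
    Nat.card {β : F // β * C.bar β = c} = q + 1 := by
  obtain ⟨x, hx⟩ := C.exists_norm hc
  have hx0 : x ≠ 0 := fun h => hc0 (by rw [← hx, h, zero_mul])
  rw [← C.card_unitOne hF]
  exact (Nat.card_congr
    { toFun := fun u : C.unitOne => (⟨x * ((u : Fˣ) : F), by
        rw [map_mul, mul_mul_mul_comm, hx, C.mem_unitOne.1 u.2, mul_one]⟩ : {β : F // β * C.bar β = c})
      invFun := fun β => ⟨Units.mk0 (β.1 / x) (div_ne_zero (fun h => hc0 (by rw [← β.2, h, zero_mul])) hx0),
        C.mem_unitOne.2 (by rw [Units.val_mk0, map_div₀, div_mul_div_comm, β.2, hx, div_self hc0])⟩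
      left_inv := fun u => Subtype.ext (Units.ext (mul_div_cancel_left₀ _ hx0))
      right_inv := fun β => Subtype.ext (mul_div_cancel₀ _ hx0) }).symm

variable (Φ X) in
/-- The sum of the class multiplicities. -/
noncomputable def classSum : ℕ := ∑ c ∈ fstar C, classMult Φ X c

/-- The two square classes. -/
theorem exists_classes (hF : Fintype.card F = q ^ 2) (hq : 2 ≤ q) :
    ∃ a b : ℕ, 2 * classSum Φ X = (q - 1) * (a + b) ∧
      (∀ c, C.bar c = c → c ≠ 0 → classMult Φ X c = a ∨ classMult Φ X c = b) ∧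
      (∃ c, C.bar c = c ∧ c ≠ 0 ∧ classMult Φ X c = a) ∧ (∃ c, C.bar c = c ∧ c ≠ 0 ∧ classMult Φ X c = b) ∧
      ((2 : F) = 0 → a = b) := by
  classical
  set f := classMult Φ X with hf
  set S := (fstar C).image fun r => r ^ 2 with hS
  have hSsub : ∀ {s}, s ∈ S → ∀ {c}, C.bar c = c → c ≠ 0 → f (c * s) = f c := by
    intro s hs c hc hc0
    obtain ⟨r, hr, rfl⟩ := Finset.mem_image.1 hs
    exact classMult_sq hc hc0 (mem_fstar.1 hr).1 (mem_fstar.1 hr).2
  have hS1 : ∀ s ∈ S, f s = f 1 := fun s hs => by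
    conv_lhs => rw [← one_mul s]
    exact hSsub hs (map_one _) one_ne_zero
  have hSf : S ⊆ fstar C := fun s hs => by
    obtain ⟨r, hr, rfl⟩ := Finset.mem_image.1 hs
    exact mem_fstar.2 ⟨by rw [map_pow, (mem_fstar.1 hr).1], pow_ne_zero 2 (mem_fstar.1 hr).2⟩
  have hcard := card_fstar (C := C) hF
  by_cases h2 : (2 : F) = 0
  · have hSeq : S = fstar C := by
      refine Finset.eq_of_subset_of_card_le hSf (le_of_eq (Finset.card_image_of_injOn ?_).symm)
      intro r _ r' _ h
      have h' : (r - r') * (r + r') = 0 := by linear_combination h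
      rcases mul_eq_zero.1 h' with h'' | h''
      · exact sub_eq_zero.1 h''
      · linear_combination h'' - r' * h2
    refine ⟨f 1, f 1, ?_, fun c hc hc0 => Or.inl (hS1 c (hSeq ▸ mem_fstar.2 ⟨hc, hc0⟩)),
      ⟨1, map_one _, one_ne_zero, rfl⟩, ⟨1, map_one _, one_ne_zero, rfl⟩, fun _ => rfl⟩
    have h1 : ∑ c ∈ fstar C, f c = (q - 1) * f 1 := by
      rw [Finset.sum_congr rfl fun c hc => hS1 c (hSeq.symm ▸ hc), Finset.sum_const, hcard, smul_eq_mul]
    rw [classSum, ← hf, h1]; ring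
  have hfib : ∀ s ∈ S, ((fstar C).filter fun r => r ^ 2 = s).card = 2 := by
    intro s hs
    obtain ⟨r, hr, rfl⟩ := Finset.mem_image.1 hs
    obtain ⟨hr1, hr0⟩ := mem_fstar.1 hr
    rw [show ((fstar C).filter fun t => t ^ 2 = r ^ 2) = {r, -r} from Finset.ext fun t => ?_,
      Finset.card_pair fun h => hr0 ((mul_eq_zero.1 (show (2 : F) * r = 0 by linear_combination h)).resolve_left h2)]
    simp only [Finset.mem_filter, Finset.mem_insert, Finset.mem_singleton, mem_fstar]
    refine ⟨fun h => ?_, ?_⟩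
    · exact sq_eq_sq_iff_eq_or_eq_neg.1 h.2
    · rintro (rfl | rfl)
      · exact ⟨⟨hr1, hr0⟩, rfl⟩
      · exact ⟨⟨by rw [map_neg, hr1], neg_ne_zero.2 hr0⟩, neg_sq r⟩
  have h2S : (fstar C).card = 2 * S.card := by
    rw [Finset.card_eq_sum_card_image (fun r : F => r ^ 2) (fstar C), ← hS, Finset.sum_congr rfl hfib,
      Finset.sum_const, smul_eq_mul, mul_comm]
  obtain ⟨ν, hν, hνS⟩ : ∃ ν ∈ fstar C, ν ∉ S := by
    by_contra hcon
    simp only [not_exists, not_and, not_not] at hcon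
    have := Finset.card_le_card (show fstar C ⊆ S from hcon)
    omega
  obtain ⟨hν1, hν0⟩ := mem_fstar.1 hν
  set T := S.image fun s => ν * s with hT
  have hTc : T.card = S.card := Finset.card_image_of_injective _ (mul_right_injective₀ hν0)
  have hdisj : Disjoint S T := by
    refine Finset.disjoint_left.2 fun s hs hsT => hνS ?_
    obtain ⟨s', hs', rfl⟩ := Finset.mem_image.1 hsT
    obtain ⟨r, hr, hre⟩ := Finset.mem_image.1 hs
    obtain ⟨r', hr', rfl⟩ := Finset.mem_image.1 hs'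
    refine Finset.mem_image.2 ⟨r / r', mem_fstar.2 ⟨by rw [map_div₀, (mem_fstar.1 hr).1, (mem_fstar.1 hr').1],
      div_ne_zero (mem_fstar.1 hr).2 (mem_fstar.1 hr').2⟩, ?_⟩
    show (r / r') ^ 2 = ν
    rw [div_pow, show r ^ 2 = ν * r' ^ 2 from hre, mul_div_assoc, div_self (pow_ne_zero 2 (mem_fstar.1 hr').2), mul_one]
  have hTf : T ⊆ fstar C := fun t ht => by
    obtain ⟨s, hs, rfl⟩ := Finset.mem_image.1 ht
    obtain ⟨h1, h0⟩ := mem_fstar.1 (hSf hs)
    exact mem_fstar.2 ⟨by rw [map_mul, hν1, h1], mul_ne_zero hν0 h0⟩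
  have hU : S ∪ T = fstar C := Finset.eq_of_subset_of_card_le (Finset.union_subset hSf hTf)
    (by rw [Finset.card_union_of_disjoint hdisj, hTc, h2S]; omega)
  have hT1 : ∀ t ∈ T, f t = f ν := fun t ht => by
    obtain ⟨s, hs, rfl⟩ := Finset.mem_image.1 ht
    exact hSsub hs hν1 hν0
  refine ⟨f 1, f ν, ?_, fun c hc hc0 => ?_, ⟨1, map_one _, one_ne_zero, rfl⟩, ⟨ν, hν1, hν0, rfl⟩,
    fun h => absurd h h2⟩
  · have h1 : ∑ c ∈ fstar C, f c = S.card * (f 1 + f ν) := by
      rw [← hU, Finset.sum_union hdisj, Finset.sum_congr rfl hS1, Finset.sum_congr rfl hT1, Finset.sum_const,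
        Finset.sum_const, hTc, smul_eq_mul, smul_eq_mul]
      ring
    rw [classSum, ← hf, h1, show q - 1 = 2 * S.card by omega]; ring
  · rcases Finset.mem_union.1 (hU.symm ▸ mem_fstar.2 ⟨hc, hc0⟩ : c ∈ S ∪ T) with h | h
    · exact Or.inl (hS1 c h)
    · exact Or.inr (hT1 c h)

/-! ### Sums over anisotropic triples -/

theorem card_disc_eq (hF : Fintype.card F = q ^ 2) {c : F} (hc : C.bar c = c) (hc0 : c ≠ 0) :
    Nat.card {d : Tri C // disc d = c} = q * (q ^ 2 + 1) := by
  classical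
  let e : {d : Tri C // disc d = c} ≃
      ({a : zset C // (a : F) ≠ 0} × F) ⊕ ({β : F // β * C.bar β = c} × zset C) :=
    { toFun := fun d => if h : (d.1.1 : F) = 0 then
          Sum.inr (⟨d.1.2.1, by have := d.2; rwa [disc, h, zero_mul, zero_add] at this⟩, d.1.2.2)
        else Sum.inl (⟨d.1.1, h⟩, d.1.2.1)
      invFun := fun p => Sum.elim
        (fun p => ⟨(p.1.1, p.2, ⟨(c - p.2 * C.bar p.2) / p.1.1.1, by
          rw [mem_zset, map_div₀, map_sub, hc, C.norm_fixed, bar_zset p.1.1.2, div_neg, add_neg_cancel]⟩),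
          by rw [disc, mul_div_cancel₀ _ p.1.2]; ring⟩)
        (fun p => ⟨(0, p.1.1, p.2), by rw [disc, ZeroMemClass.coe_zero, zero_mul, zero_add]; exact p.1.2⟩) p
      left_inv := fun d => by
        by_cases h : (d.1.1 : F) = 0
        · simp only [dif_pos h, Sum.elim_inr]
          exact Subtype.ext (Prod.ext (Subtype.ext h.symm) rfl)
        · simp only [dif_neg h, Sum.elim_inl]
          refine Subtype.ext (Prod.ext rfl (Prod.ext rfl (Subtype.ext ?_)))
          show (c - d.1.2.1 * C.bar d.1.2.1) / (d.1.1 : F) = d.1.2.2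
          rw [div_eq_iff h]
          have := d.2
          rw [disc] at this
          linear_combination -this
      right_inv := by
        rintro (⟨⟨a, ha⟩, β⟩ | ⟨β, b⟩)
        · exact dif_neg ha
        · simp }
  haveI : Fintype (zset C) := Fintype.ofFinite _
  have hz : Nat.card {a : zset C // (a : F) ≠ 0} = q - 1 := by
    have h := card_zset (C := C) hF
    rw [Nat.card_eq_fintype_card] at h ⊢
    rw [Fintype.card_subtype_compl (fun a : zset C => (a : F) = 0), h]
    congr 1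
    exact Fintype.card_eq_one_iff.2 ⟨⟨0, rfl⟩, fun a => Subtype.ext (Subtype.ext a.2)⟩
  rw [Nat.card_congr e, Nat.card_sum, Nat.card_prod, Nat.card_prod, hz, card_norm_eq hF hc hc0,
    card_zset hF, Nat.card_eq_fintype_card, hF]
  obtain ⟨r, rfl⟩ : ∃ r, q = r + 1 := ⟨q - 1, by have := C.q_ne_zero; omega⟩
  rw [Nat.add_sub_cancel]; ring

open _root_.Classical in
variable (C) in
/-- The anisotropic triples. -/
noncomputable def aniso [Fintype (Tri C)] : Finset (Tri C) := Finset.univ.filter fun d => disc d ≠ 0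

theorem sum_aniso (hF : Fintype.card F = q ^ 2) [Fintype (Tri C)] :
    ∑ d ∈ aniso C, multA Φ X d = q * (q ^ 2 + 1) * classSum Φ X := by
  classical
  rw [← Finset.sum_fiberwise_of_maps_to (s := aniso C) (g := disc) (t := fstar C) (fun d hd => mem_fstar.2
    ⟨disc_fixed d, (Finset.mem_filter.1 hd).2⟩), classSum, Finset.mul_sum]
  refine Finset.sum_congr rfl fun c hc => ?_
  obtain ⟨hc1, hc0⟩ := mem_fstar.1 hc
  have h1 : ∀ d ∈ (aniso C).filter (fun d => disc d = c), multA Φ X d = classMult Φ X c := fun d hd => by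
    obtain ⟨-, hdc⟩ := Finset.mem_filter.1 hd
    rw [multA_class (by rw [hdc]; exact hc0), hdc]
  rw [Finset.sum_congr rfl h1, Finset.sum_const, smul_eq_mul, ← card_disc_eq hF hc1 hc0,
    Nat.card_eq_fintype_card, Fintype.card_subtype]
  congr 2
  ext d
  simp only [aniso, Finset.mem_filter, Finset.mem_univ, true_and, and_iff_right_iff_imp]
  intro h
  rw [h]; exact hc0

open _root_.Classical in
/-- The anisotropic triples with vanishing first entry. -/
theorem sum_slice (hF : Fintype.card F = q ^ 2) [Fintype (Tri C)] :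
    ∑ d ∈ (Finset.univ : Finset (Tri C)).filter (fun d => (d.1 : F) = 0 ∧ d.2.1 ≠ 0), multA Φ X d =
      q * (q + 1) * classSum Φ X := by
  rw [← Finset.sum_fiberwise_of_maps_to (g := disc) (t := fstar C) (fun d hd => ?_), classSum, Finset.mul_sum]
  · refine Finset.sum_congr rfl fun c hc => ?_
    obtain ⟨hc1, hc0⟩ := mem_fstar.1 hc
    rw [Finset.sum_congr rfl (fun d hd => ?_), Finset.sum_const, smul_eq_mul]
    · congr 1
      rw [Finset.filter_filter, ← Fintype.card_subtype, ← Nat.card_eq_fintype_card]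
      rw [show q * (q + 1) = Nat.card ({β : F // β * C.bar β = c} × zset C) by
        rw [Nat.card_prod, card_norm_eq hF hc1 hc0, card_zset hF, mul_comm]]
      exact Nat.card_congr
        { toFun := fun d => (⟨d.1.2.1, by
            have := d.2.2; rwa [disc, d.2.1.1, zero_mul, zero_add] at this⟩, d.1.2.2)
          invFun := fun p => ⟨(0, p.1.1, p.2), ⟨rfl, fun (h : (p.1.1 : F) = 0) => hc0 (by rw [← p.1.2, h, zero_mul])⟩,
            by rw [disc, ZeroMemClass.coe_zero, zero_mul, zero_add]; exact p.1.2⟩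
          left_inv := fun d => Subtype.ext (Prod.ext (Subtype.ext d.2.1.1.symm) rfl)
          right_inv := fun p => rfl }
    · obtain ⟨-, hdc⟩ := Finset.mem_filter.1 hd
      rw [multA_class (by rw [hdc]; exact hc0), hdc]
  · obtain ⟨-, ha, hb⟩ := Finset.mem_filter.1 hd
    refine mem_fstar.2 ⟨disc_fixed d, ?_⟩
    rw [disc, ha, zero_mul, zero_add]
    exact mul_ne_zero hb (by simpa using hb)

end CfsgLib.Perm.UnitFour
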