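import Cfsg.Agent.Lib.Perm.UnitFour.Levi

/-!
Counting identities for an action of a four-dimensional special unitary group.
-/

set_option autoImplicit false
set_option linter.unusedSectionVars false

namespace CfsgLib.Perm.UnitFour

open scoped Matrix
open Matrix Module CfsgLib.SU CfsgLib.PGroup.UnitIndex

variable {F : Type*} [Field F] [Fintype F] {q : ℕ} {C : UCtx F q}
variable (Φ : QFrame C) (X : Type*) [MulAction ↥(Cfsg.SU 4 F q) X]

theorem card_tri (hF : Fintype.card F = q ^ 2) : Nat.card (Tri C) = q ^ 4 := by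
  rw [Nat.card_prod, Nat.card_prod, card_zset hF, Nat.card_eq_fintype_card, hF]; ring

theorem card_aniso (hF : Fintype.card F = q ^ 2) [Fintype (Tri C)] :
    (aniso C).card = q * (q ^ 2 + 1) * (q - 1) := by
  classical
  rw [Finset.card_eq_sum_card_fiberwise (s := aniso C) (f := disc) (t := fstar C) (fun d hd => mem_fstar.2
    ⟨disc_fixed d, (Finset.mem_filter.1 hd).2⟩), ← card_fstar (C := C) hF, mul_comm _ (fstar C).card,
    ← smul_eq_mul, ← Finset.sum_const]
  refine Finset.sum_congr rfl fun c hc => ?_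
  obtain ⟨hc1, hc0⟩ := mem_fstar.1 hc
  rw [← card_disc_eq hF hc1 hc0, Nat.card_eq_fintype_card, Fintype.card_subtype]
  congr 1
  ext d
  simp only [aniso, Finset.mem_filter, Finset.mem_univ, true_and, and_iff_right_iff_imp]
  intro h
  rw [h]; exact hc0

open _root_.Classical in
/-- The anisotropic characters of an orbit. -/
noncomputable def nA (x : AY Φ X) [Fintype (Tri C)] : ℕ :=
  ((aniso C).filter fun d => d ∈ dual (triPairing C) x).card

variable [Finite X]

open _root_.Classical in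
theorem sum_nA (hF : Fintype.card F = q ^ 2) [Fintype (Tri C)] [Fintype (Orb (Tri C) (AY Φ X))] :
    ∑ ω : Orb (Tri C) (AY Φ X), nA Φ X (Quotient.out ω) = q * (q ^ 2 + 1) * classSum Φ X := by
  rw [← sum_aniso hF]
  exact (sum_mult (Y := AY Φ X) (triPairing C) (aniso C)).symm

theorem card_eq_sum_dual [Fintype (Tri C)] [Fintype (Orb (Tri C) (AY Φ X))] :
    Nat.card X = ∑ ω : Orb (Tri C) (AY Φ X), Nat.card (dual (triPairing C) (Quotient.out ω)) :=
  card_eq_sum (Y := AY Φ X) (triPairing C)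

open _root_.Classical in
theorem card_dual_filter [Fintype (Tri C)] (x : AY Φ X) :
    Nat.card (dual (triPairing C) x) = ((Finset.univ : Finset (Tri C)).filter fun d => d ∈ dual (triPairing C) x).card := by
  rw [Nat.card_eq_fintype_card, Fintype.card_subtype]

theorem nA_lt [Fintype (Tri C)] (x : AY Φ X) : nA Φ X x < Nat.card (dual (triPairing C) x) := by
  classical
  rw [nA, card_dual_filter]
  refine Finset.card_lt_card (Finset.ssubset_iff_subset_ne.2 ⟨?_, fun h => ?_⟩)
  · intro d hd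
    exact Finset.mem_filter.2 ⟨Finset.mem_univ _, (Finset.mem_filter.1 hd).2⟩
  · have h0 : (0 : Tri C) ∈ (aniso C).filter fun d => d ∈ dual (triPairing C) x := by
      rw [h]; exact Finset.mem_filter.2 ⟨Finset.mem_univ _, zero_mem _⟩
    exact (Finset.mem_filter.1 (Finset.mem_filter.1 h0).1).2 (by simp [disc])

open _root_.Classical in
/-- The orbit counts of the two radicals. -/
theorem orbit_identities (hF : Fintype.card F = q ^ 2) [Fintype Φ.P.perp] :
    ∃ j : ℕ, (∀ v : Φ.P.perp, C.form v.1 v.1 ≠ 0 → multW Φ X v = j) ∧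
      (q + 1) * classSum Φ X = lineSum Φ X + (q - 1) * (q ^ 2 - 1) * j ∧
      Nat.card (Orb (Tri C) (AY Φ X)) ≤ Nat.card (Orb Φ.P.perp (PY Φ X)) + lineSum Φ X ∧
      ∑ v ∈ Finset.univ.erase (0 : Φ.P.perp), multW Φ X v =
        (q + 1) * lineSum Φ X + (q ^ 2 - q) * (q ^ 2 - 1) * j := by
  let _ : Fintype (Tri C) := Fintype.ofFinite _
  obtain ⟨j, hj, hoff⟩ := sum_off_line (X := X) Φ hF
  refine ⟨j, hj, ?_⟩
  set fA := Nat.card (Orb (Tri C) (AY Φ X))
  set fQ := Nat.card (Orb Φ.P.perp (PY Φ X))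
  set w : Φ.P.perp := ⟨Φ.R.e, Φ.he⟩ with hw
  -- the line of `w`
  have hline : ∑ v ∈ Finset.univ.filter (fun v : Φ.P.perp => C.form v.1 Φ.R.e = 0), multW Φ X v =
      fQ + lineSum Φ X := by
    rw [← Finset.add_sum_erase _ _ (show (0 : Φ.P.perp) ∈ Finset.univ.filter
      (fun v : Φ.P.perp => C.form v.1 Φ.R.e = 0) by simp [C.form_zero_left])]
    congr 1
    · exact mult_zero _
    refine (Finset.sum_bij' (fun y _ => y • w) (fun v _ => C.form v.1 Φ.R.f) ?_ ?_ ?_ ?_ fun y _ => rfl).symm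
    · intro y hy
      have hy0 : y ≠ 0 := by simpa using hy
      simp only [Finset.mem_erase, Finset.mem_filter, Finset.mem_univ, true_and]
      refine ⟨fun h => hy0 ?_, by simp [hw, C.form_smul_left, Φ.R.ee]⟩
      have h1 := congrArg (fun v : Φ.P.perp => C.form v.1 Φ.R.f) h
      simpa [hw, C.form_smul_left, Φ.R.ef, C.form_zero_left] using h1
    · intro v hv
      simp only [Finset.mem_erase, Finset.mem_filter, Finset.mem_univ, true_and] at hv ⊢
      refine ⟨fun h => hv.1 (Subtype.ext ?_), trivial⟩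
      rw [Φ.perp_decomp v.2, h, hv.2, zero_smul, zero_smul, add_zero]; rfl
    · intro y _
      simp [hw, C.form_smul_left, Φ.R.ef]
    · intro v hv
      simp only [Finset.mem_erase, Finset.mem_filter, Finset.mem_univ, true_and] at hv
      refine Subtype.ext ?_
      show C.form v.1 Φ.R.f • Φ.R.e = v.1
      conv_rhs => rw [Φ.perp_decomp v.2, hv.2, zero_smul, add_zero]
  -- the orbits of the common subgroup
  have hM1 : Nat.card (AddAction.orbitRel.Quotient (mSub C) (AY Φ X)) = fQ + lineSum Φ X := by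
    rw [norb_mSub, norb_eq (perpPairing Φ), ← hline]
    refine Finset.sum_congr (Finset.filter_congr fun v _ => ?_) fun v _ => rfl
    rw [mem_ann_lineSub]
    constructor
    · rintro ⟨a, ha⟩; rw [ha, C.form_smul_left, Φ.R.ee, mul_zero]
    · intro h
      exact ⟨C.form v.1 Φ.R.f, by conv_lhs => rw [Φ.perp_decomp v.2, h, zero_smul, add_zero]⟩
  have hM2 := norb_eq (Y := AY Φ X) (triPairing C) (mSub C)
  -- all the orbits of the transvections
  have hY2 : Nat.card (PY Φ X) = Nat.card (AddAction.orbitRel.Quotient (mSub C) (AY Φ X)) +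
      q * (q + 1) * classSum Φ X := by
    rw [← norb_zSub, norb_eq (triPairing C), hM2, ← sum_slice hF,
      ← Finset.sum_filter_add_sum_filter_not (Finset.univ.filter (· ∈ (triPairing C).ann (zSub C))) (fun d => d.2.1 = 0)]
    congr 1
    · rw [Finset.filter_filter]
      refine Finset.sum_congr (Finset.filter_congr fun d _ => ?_) fun d _ => rfl
      rw [mem_ann_zSub, mem_ann_mSub]
    · rw [Finset.filter_filter]
      refine Finset.sum_congr (Finset.filter_congr fun d _ => ?_) fun d _ => rfl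
      rw [mem_ann_zSub]
  let _ : Fintype (Orb Φ.P.perp (PY Φ X)) := Fintype.ofFinite _
  have hY1 : Nat.card (PY Φ X) = ∑ v : Φ.P.perp, multW Φ X v := by
    rw [card_eq_sum (perpPairing Φ)]
    refine Eq.trans (Finset.sum_congr rfl fun ω _ => ?_) (sum_mult (Y := PY Φ X) (perpPairing Φ) Finset.univ).symm
    rw [Nat.card_eq_fintype_card, Fintype.card_subtype]
  rw [← Finset.sum_filter_add_sum_filter_not Finset.univ (fun v : Φ.P.perp => C.form v.1 Φ.R.e = 0),
    hline, hoff] at hY1
  refine ⟨?_, ?_, ?_⟩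
  · have h1 : q * ((q + 1) * classSum Φ X) = q * (lineSum Φ X + (q - 1) * (q ^ 2 - 1) * j) := by
      have e : q ^ 2 - q = q * (q - 1) := by rw [pow_two, Nat.mul_sub, mul_one]
      rw [e] at hY1
      rw [hY1, hM1] at hY2
      rw [mul_add, ← mul_assoc, ← mul_assoc, ← mul_assoc]
      linarith
    exact Nat.eq_of_mul_eq_mul_left (Nat.pos_of_ne_zero C.q_ne_zero) h1
  · rw [← hM1, hM2]
    exact (mult_zero (Y := AY Φ X) (triPairing C)).symm.le.trans
      (Finset.single_le_sum (f := fun d => mult (Y := AY Φ X) (triPairing C) d) (fun _ _ => Nat.zero_le _)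
        (Finset.mem_filter.2 ⟨Finset.mem_univ _, zero_mem _⟩))
  · have h1 := Finset.sum_erase_add Finset.univ (fun v : Φ.P.perp => multW Φ X v) (Finset.mem_univ (0 : Φ.P.perp))
    rw [show multW Φ X (0 : Φ.P.perp) = fQ from mult_zero _,
      ← Finset.sum_filter_add_sum_filter_not Finset.univ (fun v : Φ.P.perp => C.form v.1 Φ.R.e = 0) (multW Φ X),
      hline, hoff] at h1
    linarith

/-- An orbit of the radical at the point has a non-zero dual. -/
theorem exists_dual_ne (hF : Fintype.card F = q ^ 2) (hq : 2 ≤ q)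
    (hsmall : Nat.card X < (q + 1) * (q ^ 3 + 1)) (hmove : ∀ x : X, ∃ g : ↥(Cfsg.SU 4 F q), g • x ≠ x)
    (y : PY Φ X) : ∃ v ∈ dual (perpPairing Φ) y, v ≠ 0 := by
  by_contra hcon
  simp only [not_exists, not_and, ne_eq, not_not] at hcon
  obtain ⟨x, rfl⟩ := pyMk_surj Φ y
  have hw : ∀ u : Fin 4 → F, u ∈ Φ.P.perp → u ∈ wstab Φ.P x := by
    intro u hu
    obtain ⟨t, ht⟩ := qok_exists Φ.P hu
    have h := fixed_of_dual_bot (perpPairing Φ) hcon (⟨u, ht.1⟩ : Φ.P.perp)
    rw [vadd_pyMk Φ ht, pyMk_eq] at h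
    obtain ⟨z, hz, h⟩ := h
    refine ⟨t + -z, ⟨hu, ?_⟩, ?_⟩
    · rw [map_add]; linear_combination ht.2 + mem_zset.1 ((zset C).neg_mem hz)
    · rw [← qel_zero_mul Φ.P ht ((zset C).neg_mem hz), mul_smul, ← h, ← mul_smul,
        qel_zero_mul Φ.P (qok_zero Φ.P hz) ((zset C).neg_mem hz), add_neg_cancel, qel_zero, one_smul]
  have hz : ∀ t ∈ zset C, qel Φ.P 0 t • x = x := by
    intro t ht
    obtain ⟨y, hy⟩ := C.exists_trace (c := (1 : F)) (map_one _)
    have h := comm_mem_zfix Φ.P (hw _ Φ.he) (hw _ (Φ.P.perp.smul_mem (-t * y) Φ.hf))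
    rw [C.form_smul_right, C.form_smul_left, Φ.R.ef, Φ.R.fe] at h
    rw [show C.bar (-t * y) * 1 - -t * y * 1 = t by
      rw [map_mul, map_neg, bar_zset ht, neg_neg]; linear_combination t * hy] at h
    exact h.2
  refine no_good hF hq hsmall hmove x Φ.P fun u t h => ?_
  obtain ⟨t', h', hx⟩ := hw u h.1
  have e : qel Φ.P u t = qel Φ.P 0 (t - t') * qel Φ.P u t' := by
    rw [qel_zero_mul Φ.P h' (qok_diff Φ.P h' h), add_sub_cancel]
  rw [e, mul_smul, hx, hz _ (qok_diff Φ.P h' h)]

open _root_.Classical in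
/-- A lower bound for the multiplicities off zero. -/
theorem orbits_le_sum [Fintype Φ.P.perp] {n : ℕ}
    (h : ∀ y : PY Φ X, n + 1 ≤ Nat.card (dual (perpPairing Φ) y)) :
    n * Nat.card (Orb Φ.P.perp (PY Φ X)) ≤ ∑ v ∈ Finset.univ.erase (0 : Φ.P.perp), multW Φ X v := by
  let _ : Fintype (Orb Φ.P.perp (PY Φ X)) := Fintype.ofFinite _
  unfold multW
  rw [sum_mult, Nat.card_eq_fintype_card, mul_comm, ← smul_eq_mul, ← Finset.card_univ]
  refine Finset.card_nsmul_le_sum _ _ _ fun ω _ => ?_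
  have h1 := h (Quotient.out ω)
  rw [Nat.card_eq_fintype_card, Fintype.card_subtype] at h1
  rw [Finset.filter_erase, Finset.card_erase_of_mem (Finset.mem_filter.2 ⟨Finset.mem_univ _, zero_mem _⟩)]
  refine Nat.le_sub_of_add_le (h1.trans (le_of_eq (congrArg Finset.card ?_)))
  ext v
  simp

end CfsgLib.Perm.UnitFour
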