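import Cfsg.Agent.Lib.PGroup.UnitIndex.Basic

/-!
Additive groups of binary Hermitian forms invariant under the stabiliser of an anisotropic one.
-/

set_option autoImplicit false
set_option linter.unusedSectionVars false

namespace CfsgLib.Perm.UnitFour

open CfsgLib.SU CfsgLib.PGroup.UnitIndex

variable {F : Type*} [Field F] [Fintype F] {q : ℕ} (C : UCtx F q)

/-- An additive group of triples invariant under the unipotent elements fixing `(0, 1, 0)`. -/
structure InvSet (S : AddSubgroup (F × F × F)) : Prop where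
  left : ∀ x ∈ S, x.1 ∈ zset C
  right : ∀ x ∈ S, x.2.2 ∈ zset C
  base : (0, 1, 0) ∈ S
  up : ∀ ρ, C.bar ρ = ρ → ∀ A g b, (A, g, b) ∈ S →
    (A, g - A * ρ, b + A * ρ ^ 2 + ρ * (C.bar g - g)) ∈ S
  low : ∀ ρ, C.bar ρ = ρ → ∀ A g b, (A, g, b) ∈ S →
    (A + b * ρ ^ 2 + ρ * (C.bar g - g), g - b * ρ, b) ∈ S

variable {C} {S : AddSubgroup (F × F × F)}

/-- All triples orthogonal to `(0, 1, 0)`. -/
def AllOrth (C : UCtx F q) (S : AddSubgroup (F × F × F)) : Prop :=
  ∀ A g b, A ∈ zset C → g ∈ zset C → b ∈ zset C → (A, g, b) ∈ S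

theorem allOrth_of_parts (ha : ∀ z ∈ zset C, (z, 0, 0) ∈ S) (hg : ∀ z ∈ zset C, (0, z, 0) ∈ S)
    (hb : ∀ z ∈ zset C, (0, 0, z) ∈ S) : AllOrth C S := fun A g b hA hg' hb' => by
  have h := S.add_mem (S.add_mem (ha A hA) (hg g hg')) (hb b hb')
  simpa using h

theorem sub_fixed {g : F} : C.bar g - g ∈ zset C := by
  rw [mem_zset, map_sub, C.bar_bar]; ring

theorem div_fixed {a b : F} (ha : a ∈ zset C) (hb : b ∈ zset C) : C.bar (a / b) = a / b := by
  rw [map_div₀, bar_zset ha, bar_zset hb, neg_div_neg_eq]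

theorem allOrth_odd (hS : InvSet C S) (h2 : (2 : F) ≠ 0) {A g b : F} (hy : (A, g, b) ∈ S)
    (hline : A = 0 → b = 0 → C.bar g ≠ g) : AllOrth C S := by
  have hA : A ∈ zset C := hS.left _ hy
  have hb : b ∈ zset C := hS.right _ hy
  have hfix2 : C.bar 2 = 2 := map_ofNat C.bar 2
  -- an arbitrary fixed element as a difference of squares
  have hsq : ∀ x : F, C.bar x = x → ∃ r s : F, C.bar r = r ∧ C.bar s = s ∧ x = r ^ 2 - s ^ 2 := fun x hx =>
    ⟨(x + 1) / 2, (x - 1) / 2, by rw [map_div₀, map_add, hx, map_one, hfix2],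
      by rw [map_div₀, map_sub, hx, map_one, hfix2], by field_simp; ring⟩
  have hq0 : ∀ ρ, C.bar ρ = ρ → (0, 0, 2 * A * ρ ^ 2) ∈ S := fun ρ hρ => by
    have h := S.sub_mem (S.sub_mem (S.add_mem (hS.up ρ hρ A g b hy)
      (hS.up (-ρ) (by rw [map_neg, hρ]) A g b hy)) hy) hy
    convert h using 1
    simp only [Prod.mk_add_mk, Prod.mk_sub_mk, Prod.mk.injEq]
    refine ⟨?_, ?_, ?_⟩ <;> ring
  have hq0' : ∀ ρ, C.bar ρ = ρ → (2 * b * ρ ^ 2, 0, 0) ∈ S := fun ρ hρ => by
    have h := S.sub_mem (S.sub_mem (S.add_mem (hS.low ρ hρ A g b hy)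
      (hS.low (-ρ) (by rw [map_neg, hρ]) A g b hy)) hy) hy
    convert h using 1
    simp only [Prod.mk_add_mk, Prod.mk_sub_mk, Prod.mk.injEq]
    refine ⟨?_, ?_, ?_⟩ <;> ring
  have hZ : (∀ z ∈ zset C, (0, 0, z) ∈ S) ∨ (∀ z ∈ zset C, (z, 0, 0) ∈ S) := by
    by_cases hA0 : A = 0
    · by_cases hg : C.bar g = g
      · have hb0 : b ≠ 0 := fun h => hline hA0 h hg
        refine Or.inr fun z hz => ?_
        have hh : C.bar (z / (2 * b)) = z / (2 * b) := by
          rw [map_div₀, map_mul, hfix2, bar_zset hz, bar_zset hb, mul_neg, neg_div_neg_eq]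
        obtain ⟨r, s, hr, hs, he⟩ := hsq _ hh
        have h := S.sub_mem (hq0' r hr) (hq0' s hs)
        convert h using 1
        simp only [Prod.mk_sub_mk, Prod.mk.injEq, sub_zero, and_true]
        rw [← mul_sub, ← he, mul_div_cancel₀ _ (mul_ne_zero h2 hb0)]
      · refine Or.inl fun z hz => ?_
        have hd : C.bar g - g ≠ 0 := sub_ne_zero.2 hg
        have hh := div_fixed hz (sub_fixed (C := C) (g := g))
        have h := S.sub_mem (hS.up _ hh A g b hy) hy
        convert h using 1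
        subst hA0
        simp only [Prod.mk_sub_mk, Prod.mk.injEq]
        refine ⟨by ring, by ring, ?_⟩
        rw [div_mul_cancel₀ _ hd]; ring
    · refine Or.inl fun z hz => ?_
      have hh : C.bar (z / (2 * A)) = z / (2 * A) := by
        rw [map_div₀, map_mul, hfix2, bar_zset hz, bar_zset hA, mul_neg, neg_div_neg_eq]
      obtain ⟨r, s, hr, hs, he⟩ := hsq _ hh
      have h := S.sub_mem (hq0 r hr) (hq0 s hs)
      convert h using 1
      simp only [Prod.mk_sub_mk, Prod.mk.injEq, sub_zero, true_and]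
      rw [← mul_sub, ← he, mul_div_cancel₀ _ (mul_ne_zero h2 hA0)]
  have hhalf : ∀ z ∈ zset C, z / 2 ∈ zset C := fun z hz => by
    rw [div_eq_inv_mul]; exact zset_mul_fixed hz (by rw [map_inv₀, hfix2])
  rcases hZ with hZ | hZ
  · refine allOrth_of_parts (fun z hz => ?_) (fun z hz => ?_) hZ
    · have h := S.add_mem (hS.low 1 (map_one _) 0 0 _ (hZ _ (hhalf z hz)))
        (hS.low (-1) (by rw [map_neg, map_one]) 0 0 _ (hZ _ (hhalf z hz)))
      have h' := S.sub_mem h (hZ z hz)
      convert h' using 1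
      simp only [Prod.mk_add_mk, Prod.mk_sub_mk, Prod.mk.injEq, map_zero]
      refine ⟨?_, ?_, ?_⟩ <;> field_simp <;> ring
    · have h := S.sub_mem (hS.low (-1) (by rw [map_neg, map_one]) 0 0 _ (hZ _ (hhalf z hz)))
        (hS.low 1 (map_one _) 0 0 _ (hZ _ (hhalf z hz)))
      convert h using 1
      simp only [Prod.mk_sub_mk, Prod.mk.injEq, map_zero]
      refine ⟨?_, ?_, ?_⟩ <;> field_simp <;> ring
  · refine allOrth_of_parts hZ (fun z hz => ?_) (fun z hz => ?_)
    · have h := S.sub_mem (hS.up (-1) (by rw [map_neg, map_one]) _ 0 0 (hZ _ (hhalf z hz)))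
        (hS.up 1 (map_one _) _ 0 0 (hZ _ (hhalf z hz)))
      convert h using 1
      simp only [Prod.mk_sub_mk, Prod.mk.injEq, map_zero]
      refine ⟨?_, ?_, ?_⟩ <;> field_simp <;> ring
    · have h := S.add_mem (hS.up 1 (map_one _) _ 0 0 (hZ _ (hhalf z hz)))
        (hS.up (-1) (by rw [map_neg, map_one]) _ 0 0 (hZ _ (hhalf z hz)))
      have h' := S.sub_mem h (hZ z hz)
      convert h' using 1
      simp only [Prod.mk_add_mk, Prod.mk_sub_mk, Prod.mk.injEq, map_zero]
      refine ⟨?_, ?_, ?_⟩ <;> field_simp <;> ring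

section Two

variable [CharP F 2]

theorem mem_zset_two {z : F} : z ∈ zset C ↔ C.bar z = z := by
  rw [mem_zset, CharTwo.add_eq_zero, eq_comm]

theorem allOrth_even (hS : InvSet C S)
    (hdiag : ∀ r, C.bar r = r → r ≠ 0 → ∀ A g b, (A, g, b) ∈ S → (r ^ 2 * A, g, (r ^ 2)⁻¹ * b) ∈ S)
    (hroot : ∀ c, C.bar c = c → ∃ r, C.bar r = r ∧ r ^ 2 = c) {A g b : F} (hy : (A, g, b) ∈ S)
    (hne : A * b + g * C.bar g ≠ 0) (hline : A = 0 → b = 0 → C.bar g ≠ g) : AllOrth C S := by
  have hA : A ∈ zset C := hS.left _ hy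
  have hb : b ∈ zset C := hS.right _ hy
  by_cases hbig : ∃ r, C.bar r = r ∧ r ≠ 0 ∧ r ≠ 1
  · obtain ⟨r, hr, hr0, hr1⟩ := hbig
    have hr2 : r ^ 2 ≠ 1 := fun h => hr1 (by
      have h' : (r + 1) ^ 2 = 0 := by rw [CharTwo.add_sq, h, one_pow, CharTwo.add_self_eq_zero]
      exact CharTwo.add_eq_zero.1 (pow_eq_zero_iff two_ne_zero |>.1 h'))
    have hr2i : (r ^ 2)⁻¹ - 1 ≠ 0 := sub_ne_zero.2 fun h => hr2 (inv_eq_one.1 h)
    obtain ⟨b0, hb0, hb0S⟩ : ∃ b0, b0 ≠ 0 ∧ (0, 0, b0) ∈ S := by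
      by_cases hA0 : A = 0
      · by_cases hg : C.bar g = g
        · refine ⟨((r ^ 2)⁻¹ - 1) * b, mul_ne_zero hr2i fun h => hline hA0 h hg, ?_⟩
          have h := S.sub_mem (hdiag r hr hr0 A g b hy) hy
          convert h using 1
          subst hA0
          simp only [Prod.mk_sub_mk, Prod.mk.injEq]
          refine ⟨?_, ?_, ?_⟩ <;> ring
        · refine ⟨C.bar g - g, sub_ne_zero.2 hg, ?_⟩
          have h := S.sub_mem (hS.up 1 (map_one _) A g b hy) hy
          convert h using 1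
          subst hA0
          simp only [Prod.mk_sub_mk, Prod.mk.injEq]
          refine ⟨?_, ?_, ?_⟩ <;> ring
      · obtain ⟨ρ, hρ, hρ0, hρne⟩ : ∃ ρ, C.bar ρ = ρ ∧ ρ ≠ 0 ∧ A * ρ + (C.bar g - g) ≠ 0 := by
          by_cases h1 : A * 1 + (C.bar g - g) = 0
          · exact ⟨r, hr, hr0, fun h => hr1 (mul_left_cancel₀ hA0 (by linear_combination h - h1))⟩
          · exact ⟨1, map_one _, one_ne_zero, h1⟩
        refine ⟨((r ^ 2)⁻¹ - 1) * (ρ * (A * ρ + (C.bar g - g))),
          mul_ne_zero hr2i (mul_ne_zero hρ0 hρne), ?_⟩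
        have h1 := S.sub_mem (hS.up ρ hρ A g b hy) hy
        rw [Prod.mk_sub_mk, Prod.mk_sub_mk, sub_self] at h1
        have h2 := S.sub_mem (hdiag r hr hr0 _ _ _ h1) h1
        convert h2 using 1
        simp only [Prod.mk_sub_mk, Prod.mk.injEq]
        refine ⟨?_, ?_, ?_⟩ <;> ring
    have hZ : ∀ z ∈ zset C, (0, 0, z) ∈ S := by
      intro z hz
      rcases eq_or_ne z 0 with rfl | hz0
      · exact S.zero_mem
      obtain ⟨t, ht, htt⟩ := hroot (b0 / z) (div_fixed (hS.right _ hb0S) hz)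
      have ht0 : t ≠ 0 := fun h => div_ne_zero hb0 hz0 (by rw [← htt, h, zero_pow two_ne_zero])
      have h := hdiag t ht ht0 _ _ _ hb0S
      convert h using 1
      rw [htt, mul_zero, inv_div, div_mul_cancel₀ _ hb0]
    have hlow : ∀ z ∈ zset C, (z, -z, 0) ∈ S := fun z hz => by
      have h := S.sub_mem (hS.low 1 (map_one _) 0 0 z (hZ z hz)) (hZ z hz)
      convert h using 1
      simp only [Prod.mk_sub_mk, Prod.mk.injEq, map_zero]
      refine ⟨?_, ?_, ?_⟩ <;> ring
    have ha : ∀ z ∈ zset C, (z, 0, 0) ∈ S := by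
      intro z hz
      have hr21 : r ^ 2 - 1 ≠ 0 := sub_ne_zero.2 hr2
      have hzz : z / (r ^ 2 - 1) ∈ zset C := by
        rw [div_eq_inv_mul]
        exact zset_mul_fixed hz (by rw [map_inv₀, map_sub, map_pow, hr, map_one])
      have h := S.sub_mem (hdiag r hr hr0 _ _ _ (hlow _ hzz)) (hlow _ hzz)
      convert h using 1
      simp only [Prod.mk_sub_mk, Prod.mk.injEq]
      refine ⟨by field_simp, ?_, ?_⟩ <;> ring
    refine allOrth_of_parts ha (fun z hz => ?_) hZ
    have h := S.sub_mem (ha z hz) (hlow z hz)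
    convert h using 1
    simp
  simp only [not_exists, not_and, not_not] at hbig
  have h01 : ∀ z ∈ zset C, z = 0 ∨ z = 1 := fun z hz =>
    or_iff_not_imp_left.2 fun h => hbig z (mem_zset_two.1 hz) h
  have hmul : ∀ z ∈ zset C, (0, z, 0) ∈ S := fun z hz => by
    rcases h01 z hz with rfl | rfl
    exacts [S.zero_mem, hS.base]
  have h1z : (1 : F) ∈ zset C := mem_zset_two.2 (map_one _)
  have fromB : (0, 0, 1) ∈ S → AllOrth C S := fun hb1 => by
    have h := S.sub_mem (S.sub_mem (hS.low 1 (map_one _) 0 0 1 hb1) hb1) hS.base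
    have ha1 : ((1 : F), (0 : F), (0 : F)) ∈ S := by
      convert h using 1
      simp [CharTwo.sub_eq_add, CharTwo.add_self_eq_zero]
    refine allOrth_of_parts (fun z hz => ?_) hmul (fun z hz => ?_) <;> rcases h01 z hz with rfl | rfl
    exacts [S.zero_mem, ha1, S.zero_mem, hb1]
  have fromA : ((1 : F), (0 : F), (0 : F)) ∈ S → AllOrth C S := fun ha1 => by
    have h := S.sub_mem (S.sub_mem (hS.up 1 (map_one _) 1 0 0 ha1) ha1) hS.base
    refine fromB ?_
    convert h using 1
    simp [CharTwo.sub_eq_add, CharTwo.add_self_eq_zero]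
  have hu := S.add_mem (S.add_mem (hS.up 1 (map_one _) A g b hy) hy) (hmul A hA)
  have hl := S.add_mem (S.add_mem (hS.low 1 (map_one _) A g b hy) hy) (hmul b hb)
  simp only [Prod.mk_add_mk, CharTwo.sub_eq_add, mul_one, one_pow, one_mul, add_zero] at hu hl
  by_cases hu1 : A + (C.bar g + g) = 0
  · by_cases hl1 : b + (C.bar g + g) = 0
    · have hAb : A = b := by linear_combination hu1 - hl1
      subst hAb
      rcases h01 A hA with rfl | rfl
      · exact absurd (CharTwo.add_eq_zero.1 (by linear_combination hu1)) (hline rfl rfl)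
      · have hg0 : g ≠ 0 := fun h => one_ne_zero (α := F) (by rw [h, map_zero, add_zero, add_zero] at hu1; exact hu1)
        have hN : g * C.bar g = 1 := hbig _ (C.norm_fixed g) (mul_ne_zero hg0 (by simpa using hg0))
        rw [hN, mul_one, CharTwo.add_self_eq_zero] at hne
        exact absurd rfl hne
    · have hz : b + (C.bar g + g) ∈ zset C :=
        (zset C).add_mem hb (mem_zset_two.2 (by rw [map_add, C.bar_bar, add_comm]))
      have h1 := ((h01 _ hz).resolve_left hl1)
      refine fromA ?_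
      convert hl using 1
      simp only [Prod.mk.injEq]
      refine ⟨?_, ?_, ?_⟩
      · linear_combination -h1 - CharTwo.add_self_eq_zero (R := F) A
      · linear_combination -CharTwo.add_self_eq_zero (R := F) g - CharTwo.add_self_eq_zero (R := F) b
      · linear_combination -CharTwo.add_self_eq_zero (R := F) b
  · have hz : A + (C.bar g + g) ∈ zset C :=
      (zset C).add_mem hA (mem_zset_two.2 (by rw [map_add, C.bar_bar, add_comm]))
    have h1 := ((h01 _ hz).resolve_left hu1)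
    refine fromB ?_
    convert hu using 1
    simp only [Prod.mk.injEq]
    refine ⟨?_, ?_, ?_⟩
    · linear_combination -CharTwo.add_self_eq_zero (R := F) A
    · linear_combination -CharTwo.add_self_eq_zero (R := F) g - CharTwo.add_self_eq_zero (R := F) A
    · linear_combination -h1 - CharTwo.add_self_eq_zero (R := F) b

end Two

end CfsgLib.Perm.UnitFour
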