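import Cfsg.Agent.Lib.Perm.UnitFour.Main
import Cfsg.Agent.Lib.Classical.HermOrder

/-!
The minimal index of a proper subgroup of a four-dimensional projective special unitary group.
-/

set_option autoImplicit false
set_option linter.unusedSectionVars false

namespace CfsgLib.Perm.UnitFour

open scoped Matrix
open Matrix CfsgLib.SU

variable {F : Type*} [Field F] [Fintype F] {q : ℕ}

/-- The minimal index is the number of totally isotropic lines. -/
theorem psu_four_min_index (C : UCtx F q) (hF : Fintype.card F = q ^ 2) (hq : 2 ≤ q) :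
    (∀ H : Subgroup (Cfsg.PSU 4 F q), H ≠ ⊤ → (q + 1) * (q ^ 3 + 1) ≤ H.index) ∧
      ∃ H : Subgroup (Cfsg.PSU 4 F q), H.index = (q + 1) * (q ^ 3 + 1) := by
  classical
  haveI : Finite (Cfsg.PSU 4 F q) := Quotient.finite _
  refine ⟨fun H hH => ?_, ?_⟩
  · by_contra hlt
    rw [not_le] at hlt
    letI : MulAction ↥(Cfsg.SU 4 F q) (Cfsg.PSU 4 F q ⧸ H) := MulAction.compHom _ pr
    haveI : Finite (Cfsg.PSU 4 F q ⧸ H) := Quotient.finite _
    obtain ⟨P⟩ := C.exists_pair (n := 4) (by norm_num)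
    obtain ⟨Φ, -⟩ := exists_frame P
    refine no_action (X := Cfsg.PSU 4 F q ⧸ H) hF hq hlt (fun x => ?_) Φ
    by_contra hfix
    simp only [ne_eq, not_exists, not_not] at hfix
    refine hH (eq_top_iff.2 fun g _ => ?_)
    obtain ⟨h, rfl⟩ := QuotientGroup.mk_surjective x
    obtain ⟨a, ha⟩ := QuotientGroup.mk'_surjective _ (h * g * h⁻¹)
    have h1 : (QuotientGroup.mk (pr a * h) : Cfsg.PSU 4 F q ⧸ H) = QuotientGroup.mk h := hfix a
    rw [show pr a = h * g * h⁻¹ from ha, inv_mul_cancel_right, QuotientGroup.eq, _root_.mul_inv_rev,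
      inv_mul_cancel_right] at h1
    exact inv_mem_iff.1 h1
  · haveI : Nonempty (TSub C 2) := (Nat.card_pos_iff.1 (by
      rw [card_tsub_two hF hq]; positivity)).1
    letI : MulAction ↥(Cfsg.SU 4 F q) (TSub C 2) :=
      { smul := fun g W => ⟨W.1.map (Matrix.mulVecLin g.1.1), by
          rw [(Submodule.equivMapOfInjective _ (fun a b h => by
            rw [← su_inv_mulVec g a, ← su_inv_mulVec g b]
            exact congrArg _ h) W.1).finrank_eq.symm, W.2.1], by
          rintro _ ⟨u, hu, rfl⟩ _ ⟨v, hv, rfl⟩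
          show C.form (g.1.1 *ᵥ u) (g.1.1 *ᵥ v) = 0
          rw [C.form_su]
          exact W.2.2 u hu v hv⟩
        one_smul := fun W => Subtype.ext (by
          show W.1.map _ = W.1
          rw [show Matrix.mulVecLin (1 : ↥(Cfsg.SU 4 F q)).1.1 = LinearMap.id from LinearMap.ext su_one_mulVec,
            Submodule.map_id])
        mul_smul := fun g h W => Subtype.ext (by
          show W.1.map _ = (W.1.map _).map _
          rw [← Submodule.map_comp]
          congr 1
          exact LinearMap.ext (suMat_mulVec_mul g h)) }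
    haveI : MulAction.IsPretransitive ↥(Cfsg.SU 4 F q) (TSub C 2) :=
      ⟨fun W W' => (exists_su_subspace W W').imp fun g hg => Subtype.ext hg⟩
    obtain ⟨W⟩ := ‹Nonempty (TSub C 2)›
    refine ⟨(MulAction.stabilizer ↥(Cfsg.SU 4 F q) W).map pr, ?_⟩
    rw [Subgroup.index_map_eq _ (QuotientGroup.mk'_surjective _) ?_, MulAction.index_stabilizer_of_transitive,
      card_tsub_two hF hq]
    intro a ha
    obtain ⟨c, hc⟩ := (C.pr_eq_iff (n := 4) (by norm_num)).1
      (show pr (1 : ↥(Cfsg.SU 4 F q)) = pr a by rw [map_one]; exact ha.symm)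
    refine Subtype.ext (Submodule.eq_of_le_of_finrank_le ?_ (le_of_eq (W.2.1.trans (a • W).2.1.symm)))
    rintro _ ⟨u, hu, rfl⟩
    show a.1.1 *ᵥ u ∈ W.1
    rw [hc, Matrix.smul_mulVec, show (1 : ↥(Cfsg.SU 4 F q)).1.1 *ᵥ u = u from su_one_mulVec u]
    exact W.1.smul_mem c hu

end CfsgLib.Perm.UnitFour
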