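import Mathlib

/-!
Orbits of a finite abelian group, counted with the characters trivial on stabilisers.
-/

set_option autoImplicit false
set_option linter.unusedSectionVars false

namespace CfsgLib.Perm.UnitFour

/-- An identification of a group with the character group of another one. -/
structure Pairing (V D : Type*) [AddCommGroup V] [AddCommGroup D] where
  φ : D →+ AddChar V ℂ
  bij : Function.Bijective φ

variable {V D Y : Type*} [AddCommGroup V] [AddCommGroup D] (B : Pairing V D)

/-- The parameters whose characters are trivial on a subgroup. -/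
def Pairing.ann (U : AddSubgroup V) : AddSubgroup D where
  carrier := {d | ∀ u ∈ U, B.φ d u = 1}
  zero_mem' := fun u _ => by rw [map_zero, AddChar.zero_apply]
  add_mem' := fun {a b} ha hb u hu => by rw [map_add, AddChar.add_apply, ha u hu, hb u hu, one_mul]
  neg_mem' := fun {a} ha u hu => by rw [map_neg, AddChar.neg_apply', ha u hu, inv_one]

theorem Pairing.mem_ann {U : AddSubgroup V} {d : D} : d ∈ B.ann U ↔ ∀ u ∈ U, B.φ d u = 1 := Iff.rfl

theorem Pairing.ann_sup (U U' : AddSubgroup V) : B.ann (U ⊔ U') = B.ann U ⊓ B.ann U' := by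
  ext d
  refine ⟨fun h => ⟨fun u hu => h u (AddSubgroup.mem_sup_left hu),
    fun u hu => h u (AddSubgroup.mem_sup_right hu)⟩, fun h u hu => ?_⟩
  obtain ⟨a, ha, b, hb, rfl⟩ := AddSubgroup.mem_sup.1 hu
  rw [AddChar.map_add_eq_mul, h.1 a ha, h.2 b hb, one_mul]

theorem Pairing.ann_bot : B.ann ⊥ = ⊤ :=
  eq_top_iff.2 fun d _ u hu => by rw [AddSubgroup.mem_bot.1 hu, AddChar.map_zero_eq_one]

theorem Pairing.card_ann [Finite V] (U : AddSubgroup V) : Nat.card (B.ann U) = U.index := by
  classical
  haveI : Fintype (V ⧸ U) := Fintype.ofFinite _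
  have h : Nat.card (B.ann U) = Nat.card (AddChar (V ⧸ U) ℂ) := by
    refine (Nat.card_congr (Equiv.ofBijective (fun χ : AddChar (V ⧸ U) ℂ =>
      (⟨Function.surjInv B.bij.2 (χ.compAddMonoidHom (QuotientAddGroup.mk' U)), fun u hu => by
        rw [Function.surjInv_eq B.bij.2, AddChar.compAddMonoidHom_apply, QuotientAddGroup.mk'_apply,
          (QuotientAddGroup.eq_zero_iff u).2 hu, AddChar.map_zero_eq_one]⟩ : B.ann U)) ⟨?_, ?_⟩)).symm
    · intro χ χ' he
      have he' := congrArg B.φ (congrArg Subtype.val he)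
      rw [Function.surjInv_eq B.bij.2, Function.surjInv_eq B.bij.2] at he'
      refine DFunLike.ext _ _ fun x => ?_
      induction x using QuotientAddGroup.induction_on with
      | H v => exact DFunLike.congr_fun he' v
    · rintro ⟨d, hd⟩
      refine ⟨{ toFun := fun x => Quotient.liftOn' x (fun a => B.φ d a) fun a b hab => by
                  have h1 := hd _ (QuotientAddGroup.leftRel_apply.1 hab)
                  calc B.φ d a = B.φ d a * B.φ d (-a + b) := by rw [h1, mul_one]
                    _ = B.φ d b := by rw [← AddChar.map_add_eq_mul, add_neg_cancel_left]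
                map_zero_eq_one' := (B.φ d).map_zero_eq_one
                map_add_eq_mul' := fun x x' => by
                  induction x using QuotientAddGroup.induction_on with
                  | H a =>
                    induction x' using QuotientAddGroup.induction_on with
                    | H b => exact (B.φ d).map_add_eq_mul a b }, Subtype.ext (B.bij.1 ?_)⟩
      rw [Function.surjInv_eq B.bij.2]
      exact DFunLike.ext _ _ fun a => rfl
  rw [h, Nat.card_eq_fintype_card, AddChar.card_eq, ← Nat.card_eq_fintype_card]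
  rfl

variable [AddAction V Y]

/-- The orbits. -/
abbrev Orb (V Y : Type*) [AddCommGroup V] [AddAction V Y] : Type _ := AddAction.orbitRel.Quotient V Y

/-- The parameters whose characters are trivial on the stabiliser of a point. -/
def dual (y : Y) : AddSubgroup D := B.ann (AddAction.stabilizer V y)

theorem mem_dual {y : Y} {d : D} : d ∈ dual B y ↔ ∀ v : V, v +ᵥ y = y → B.φ d v = 1 := Iff.rfl

theorem stab_vadd (y : Y) (w : V) : AddAction.stabilizer V (w +ᵥ y) = AddAction.stabilizer V y := by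
  ext v
  rw [AddAction.mem_stabilizer_iff, AddAction.mem_stabilizer_iff, vadd_vadd, add_comm, ← vadd_vadd,
    vadd_left_cancel_iff]

theorem dual_vadd (y : Y) (w : V) : dual B (w +ᵥ y) = dual B y := by rw [dual, dual, stab_vadd]

theorem dual_out (y : Y) : dual B (Quotient.out (⟦y⟧ : Orb V Y)) = dual B y := by
  obtain ⟨w, hw⟩ := Quotient.exact (Quotient.out_eq (⟦y⟧ : Orb V Y))
  rw [← hw]
  exact dual_vadd B y w

theorem card_dual [Finite V] (y : Y) : Nat.card (dual B y) = (AddAction.orbit V y).ncard := by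
  rw [dual, B.card_ann, AddAction.index_stabilizer]

theorem dual_eq_top_iff [Finite V] [Finite D] (y : Y) :
    dual B y = ⊤ ↔ AddAction.stabilizer V y = ⊥ := by
  refine ⟨fun h => ?_, fun h => by rw [dual, h, B.ann_bot]⟩
  have h1 := B.card_ann (AddAction.stabilizer V y)
  rw [show B.ann (AddAction.stabilizer V y) = ⊤ from h, AddSubgroup.card_top] at h1
  have h2 := (AddAction.stabilizer V y).card_mul_index
  have h3 : Nat.card D = Nat.card V := by
    have := B.card_ann (⊥ : AddSubgroup V)
    rwa [B.ann_bot, AddSubgroup.card_top, AddSubgroup.index_bot] at this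
  rw [← h1, h3] at h2
  have h4 : 0 < Nat.card V := Nat.card_pos
  exact AddSubgroup.eq_bot_of_card_eq _ (Nat.eq_of_mul_eq_mul_right h4 (h2.trans (one_mul _).symm))

theorem fixed_of_dual_bot [Finite V] {y : Y} (h : ∀ d ∈ dual B y, d = 0) (v : V) : v +ᵥ y = y := by
  have h1 : Nat.card (dual B y) = 1 := by
    rw [(eq_bot_iff.2 fun d hd => AddSubgroup.mem_bot.2 (h d hd) : dual B y = ⊥), AddSubgroup.card_bot]
  rw [dual, B.card_ann, AddSubgroup.index_eq_one] at h1
  exact AddAction.mem_stabilizer_iff.1 (h1 ▸ AddSubgroup.mem_top v)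

/-- The number of orbits whose stabiliser lies in the kernel of the character. -/
noncomputable def mult (d : D) : ℕ := Nat.card {ω : Orb V Y // d ∈ dual B (Quotient.out ω)}

theorem le_mult_of_top [Finite Y] (d : D) :
    Nat.card {ω : Orb V Y // dual B (Quotient.out ω) = ⊤} ≤ mult (Y := Y) B d :=
  Nat.card_le_card_of_injective (fun ω => ⟨ω.1, by rw [ω.2]; exact AddSubgroup.mem_top d⟩)
    fun a b h => Subtype.ext (congrArg Subtype.val h :)

open _root_.Classical in
theorem sum_mult [Fintype D] [Fintype (Orb V Y)] (T : Finset D) :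
    ∑ d ∈ T, mult (Y := Y) B d = ∑ ω : Orb V Y, (T.filter fun d => d ∈ dual B (Quotient.out ω)).card := by
  simp only [mult, Nat.card_eq_fintype_card, Fintype.card_subtype, Finset.card_filter]
  rw [Finset.sum_comm]

theorem mult_zero : mult (Y := Y) B 0 = Nat.card (Orb V Y) :=
  Nat.card_congr (Equiv.subtypeUnivEquiv fun ω => (dual B (Quotient.out ω)).zero_mem)

/-- The orbits of a subgroup are counted by the characters trivial on it. -/
theorem norb_eq [Finite V] [Fintype D] [Finite Y] (L : AddSubgroup V) [DecidablePred (· ∈ B.ann L)] :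
    Nat.card (AddAction.orbitRel.Quotient L Y) =
      ∑ d ∈ Finset.univ.filter (· ∈ B.ann L), mult (Y := Y) B d := by
  classical
  haveI : Fintype (Orb V Y) := Fintype.ofFinite _
  have hs : ∀ ω : Orb V Y, ((Finset.univ.filter (· ∈ B.ann L)).filter fun d =>
      d ∈ dual B (Quotient.out ω)).card = Nat.card (V ⧸ (L ⊔ AddAction.stabilizer V (Quotient.out ω))) := by
    intro ω
    have h1 := B.card_ann (L ⊔ AddAction.stabilizer V (Quotient.out ω))
    rw [B.ann_sup] at h1
    show _ = (L ⊔ AddAction.stabilizer V (Quotient.out ω)).index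
    rw [← h1, Nat.card_eq_fintype_card, Fintype.card_subtype, Finset.filter_filter]
    congr 1
    ext d
    simp only [Finset.mem_filter, Finset.mem_univ, true_and, AddSubgroup.mem_inf]
    rfl
  rw [sum_mult, Finset.sum_congr rfl fun ω _ => hs ω, ← Nat.card_sigma]
  refine (Nat.card_congr (Equiv.ofBijective (fun p : Σ ω : Orb V Y,
    V ⧸ (L ⊔ AddAction.stabilizer V (Quotient.out ω)) =>
      (⟦Quotient.out p.2 +ᵥ Quotient.out p.1⟧ : AddAction.orbitRel.Quotient L Y)) ⟨?_, ?_⟩)).symm
  · rintro ⟨ω, a⟩ ⟨ω', b⟩ h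
    obtain ⟨l, hl⟩ := Quotient.exact h
    have hl' : (l : V) +ᵥ (Quotient.out b +ᵥ Quotient.out ω') = Quotient.out a +ᵥ Quotient.out ω := hl
    obtain rfl : ω = ω' := by
      rw [← Quotient.out_eq ω, ← Quotient.out_eq ω']
      refine Quotient.sound ⟨-Quotient.out a + ((l : V) + Quotient.out b), ?_⟩
      show (-Quotient.out a + ((l : V) + Quotient.out b)) +ᵥ Quotient.out ω' = Quotient.out ω
      rw [← vadd_vadd, ← vadd_vadd, hl', neg_vadd_vadd]
    refine Sigma.ext rfl (heq_of_eq ?_)
    rw [← Quotient.out_eq a, ← Quotient.out_eq b]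
    refine Quotient.sound (QuotientAddGroup.leftRel_apply.2 ?_)
    have h1 : -Quotient.out a + Quotient.out b =
        -(l : V) + ((-Quotient.out a + ((l : V) + Quotient.out b))) := by abel
    rw [h1]
    refine AddSubgroup.add_mem_sup (L.neg_mem l.2) ?_
    rw [AddAction.mem_stabilizer_iff, ← vadd_vadd, ← vadd_vadd, hl', neg_vadd_vadd]
  · intro x
    induction x using Quotient.ind with
    | _ y =>
      obtain ⟨w, hw⟩ := Quotient.exact (Quotient.out_eq (⟦y⟧ : Orb V Y))
      set ω : Orb V Y := ⟦y⟧ with hω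
      have hw' : w +ᵥ y = Quotient.out ω := hw
      set a : V ⧸ (L ⊔ AddAction.stabilizer V (Quotient.out ω)) := QuotientAddGroup.mk (-w) with ha
      refine ⟨⟨ω, a⟩, Quotient.sound ?_⟩
      have h1 : -(Quotient.out a) + -w ∈ L ⊔ AddAction.stabilizer V (Quotient.out ω) :=
        QuotientAddGroup.leftRel_apply.1 (Quotient.exact (Quotient.out_eq a))
      obtain ⟨l, hl, s, hs', he⟩ := AddSubgroup.mem_sup.1 h1
      refine ⟨⟨-l, L.neg_mem hl⟩, ?_⟩
      show -l +ᵥ y = Quotient.out a +ᵥ Quotient.out ω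
      have he2 : Quotient.out a = -l + -w + -s := by
        have e := congrArg (fun z => Quotient.out a + z + -l + -s) he
        simp only [add_neg_cancel_left] at e
        calc Quotient.out a = Quotient.out a + (l + s) + -l + -s := by abel
          _ = -w + -l + -s := e
          _ = _ := by abel
      rw [he2, ← vadd_vadd, ← vadd_vadd,
        AddAction.mem_stabilizer_iff.1 ((AddAction.stabilizer V _).neg_mem hs'), ← hw', neg_vadd_vadd]

theorem card_eq_sum [Finite V] [Fintype D] [Fintype (Orb V Y)] [Finite Y] :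
    Nat.card Y = ∑ ω : Orb V Y, Nat.card (dual B (Quotient.out ω)) := by
  classical
  simp only [card_dual B, ← Nat.card_coe_set_eq]
  rw [Nat.card_congr (AddAction.selfEquivSigmaOrbits V Y), Nat.card_sigma]

/-! ### Automorphisms -/

variable {B}

theorem dual_map {σ : V → V} (hσs : Function.Surjective σ) {φ : D → D} (hp : ∀ d v, B.φ d (σ v) = B.φ (φ d) v)
    {π : Y ≃ Y} (hπ : ∀ v y, π (v +ᵥ y) = σ v +ᵥ π y) (y : Y) (d : D) :
    d ∈ dual B (π y) ↔ φ d ∈ dual B y := by
  constructor
  · intro h v hv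
    rw [← hp]
    refine h _ ?_
    rw [AddAction.mem_stabilizer_iff, ← hπ, AddAction.mem_stabilizer_iff.1 hv]
  · intro h v hv
    obtain ⟨v, rfl⟩ := hσs v
    rw [hp]
    exact h v (π.injective (by rw [hπ, AddAction.mem_stabilizer_iff.1 hv]))

/-- The induced permutation of the orbits. -/
def orbEquiv {σ : V → V} (hσs : Function.Surjective σ) {π : Y ≃ Y} (hπ : ∀ v y, π (v +ᵥ y) = σ v +ᵥ π y) :
    Orb V Y ≃ Orb V Y :=
  Quotient.congr π fun a b => by
    constructor
    · rintro ⟨v, rfl⟩
      exact ⟨σ v, (hπ v b).symm⟩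
    · rintro ⟨v, hv⟩
      obtain ⟨v, rfl⟩ := hσs v
      exact ⟨v, π.injective ((hπ v b).trans hv)⟩

theorem mem_dual_orbEquiv {σ : V → V} (hσs : Function.Surjective σ) {φ : D → D}
    (hp : ∀ d v, B.φ d (σ v) = B.φ (φ d) v) {π : Y ≃ Y} (hπ : ∀ v y, π (v +ᵥ y) = σ v +ᵥ π y) (ω : Orb V Y) (d : D) :
    d ∈ dual B (Quotient.out (orbEquiv hσs hπ ω)) ↔ φ d ∈ dual B (Quotient.out ω) := by
  conv_lhs => rw [← Quotient.out_eq ω]
  show d ∈ dual B (Quotient.out (⟦π (Quotient.out ω)⟧ : Orb V Y)) ↔ _
  rw [dual_out, dual_map hσs hp hπ]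

theorem mult_map {σ : V → V} (hσs : Function.Surjective σ) {φ : D → D}
    (hp : ∀ d v, B.φ d (σ v) = B.φ (φ d) v) {π : Y ≃ Y} (hπ : ∀ v y, π (v +ᵥ y) = σ v +ᵥ π y) (d : D) :
    mult (Y := Y) B d = mult (Y := Y) B (φ d) :=
  (Nat.card_congr (Equiv.subtypeEquiv (orbEquiv hσs hπ) fun ω => (mem_dual_orbEquiv hσs hp hπ ω d).symm)).symm

/-- A permutation of at most two orbits fixes each of them when applied twice. -/
theorem dual_invariant_sq [Finite Y] {σ : V → V} (hσs : Function.Surjective σ) {φ : D → D}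
    (hp : ∀ d v, B.φ d (σ v) = B.φ (φ d) v) {π : Y ≃ Y} (hπ : ∀ v y, π (v +ᵥ y) = σ v +ᵥ π y) {y : Y} {d : D}
    (hd : d ∈ dual B y) (hφ : φ d = d) (hm : mult (Y := Y) B d ≤ 2) {x : D} (hx : x ∈ dual B y) :
    φ (φ x) ∈ dual B y := by
  classical
  let _ : Fintype (Orb V Y) := Fintype.ofFinite _
  set e := orbEquiv hσs hπ with he
  have hmem := mem_dual_orbEquiv (B := B) hσs hp hπ
  set ω : Orb V Y := ⟦y⟧ with hω
  have h0 : d ∈ dual B (Quotient.out ω) := by rw [hω, dual_out]; exact hd
  have h1 : d ∈ dual B (Quotient.out (e ω)) := by rw [he, hmem, hφ]; exact h0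
  have h2 : d ∈ dual B (Quotient.out (e (e ω))) := by rw [he, hmem, hφ]; exact h1
  have key : e (e ω) = ω := by
    by_contra hne
    have hne1 : e ω ≠ ω := fun h => hne (by rw [h, h])
    have hne2 : e (e ω) ≠ e ω := fun h => hne1 (e.injective h)
    have hsub : ({ω, e ω, e (e ω)} : Finset (Orb V Y)) ⊆ Finset.univ.filter fun w => d ∈ dual B (Quotient.out w) := by
      intro w hw
      simp only [Finset.mem_insert, Finset.mem_singleton] at hw
      refine Finset.mem_filter.2 ⟨Finset.mem_univ _, ?_⟩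
      rcases hw with rfl | rfl | rfl
      exacts [h0, h1, h2]
    have h3 := Finset.card_le_card hsub
    rw [Finset.card_insert_of_notMem (by simp [Ne.symm hne1, Ne.symm hne]),
      Finset.card_pair (Ne.symm hne2)] at h3
    rw [mult, Nat.card_eq_fintype_card, Fintype.card_subtype] at hm
    omega
  have h4 : x ∈ dual B (Quotient.out (e (e ω))) := by rw [key, hω, dual_out]; exact hx
  rw [he, hmem, hmem, hω, dual_out] at h4
  exact h4

/-- A permutation of a single orbit fixes it. -/
theorem dual_invariant [Finite Y] {σ : V → V} (hσs : Function.Surjective σ) {φ : D → D}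
    (hp : ∀ d v, B.φ d (σ v) = B.φ (φ d) v) {π : Y ≃ Y} (hπ : ∀ v y, π (v +ᵥ y) = σ v +ᵥ π y) {y : Y} {d : D}
    (hd : d ∈ dual B y) (hφ : φ d = d) (hm : mult (Y := Y) B d ≤ 1) {x : D} (hx : x ∈ dual B y) :
    φ x ∈ dual B y := by
  classical
  haveI : Subsingleton {ω : Orb V Y // d ∈ dual B (Quotient.out ω)} :=
    Finite.card_le_one_iff_subsingleton.1 hm
  set ω : Orb V Y := ⟦y⟧ with hω
  have h0 : d ∈ dual B (Quotient.out ω) := by rw [hω, dual_out]; exact hd
  have h1 : d ∈ dual B (Quotient.out (orbEquiv hσs hπ ω)) := by rw [mem_dual_orbEquiv hσs hp hπ, hφ]; exact h0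
  have key : orbEquiv hσs hπ ω = ω :=
    congrArg Subtype.val (Subsingleton.elim (⟨_, h1⟩ : {ω : Orb V Y // d ∈ dual B (Quotient.out ω)}) ⟨ω, h0⟩)
  have h4 : x ∈ dual B (Quotient.out (orbEquiv hσs hπ ω)) := by rw [key, hω, dual_out]; exact hx
  rwa [mem_dual_orbEquiv hσs hp hπ, hω, dual_out] at h4

end CfsgLib.Perm.UnitFour
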