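import Cfsg.Agent.Lib.PGroup.UnitIndex.Orbits
import Cfsg.Agent.Lib.Perm.UnitFour.Orbits

/-!
The abelian radical at a totally isotropic line of a four-dimensional unitary space, its character
group, and the automorphisms induced by the stabiliser of the line.
-/

set_option autoImplicit false
set_option linter.unusedSectionVars false

namespace CfsgLib.Perm.UnitFour

open scoped Matrix
open Matrix Module CfsgLib.SU CfsgLib.PGroup.UnitIndex

variable {F : Type*} [Field F] [Fintype F] {q : ℕ} {C : UCtx F q}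

/-- Two orthogonal hyperbolic pairs. -/
structure QFrame (C : UCtx F q) where
  P : UPair C 4
  R : UPair C 4
  he : R.e ∈ P.perp
  hf : R.f ∈ P.perp

theorem exists_frame (P : UPair C 4) : ∃ Φ : QFrame C, Φ.P = P := by
  obtain ⟨φ, hφ, hinj, -, hform⟩ := exists_coord P
  obtain ⟨R⟩ := C.exists_pair (n := 4 - 2) (by norm_num)
  exact ⟨⟨P, ⟨φ R.e, φ R.f, by rw [hform, R.ee], by rw [hform, R.ff], by rw [hform, R.ef]⟩,
    hφ _, hφ _⟩, rfl⟩

variable (Φ : QFrame C)

theorem QFrame.we : C.form Φ.R.e Φ.P.e = 0 := Φ.he.1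
theorem QFrame.wf : C.form Φ.R.e Φ.P.f = 0 := Φ.he.2
theorem QFrame.ve : C.form Φ.R.f Φ.P.e = 0 := Φ.hf.1
theorem QFrame.vf : C.form Φ.R.f Φ.P.f = 0 := Φ.hf.2
theorem QFrame.ew : C.form Φ.P.e Φ.R.e = 0 := C.form_swap_zero Φ.we
theorem QFrame.fw : C.form Φ.P.f Φ.R.e = 0 := C.form_swap_zero Φ.wf
theorem QFrame.ev : C.form Φ.P.e Φ.R.f = 0 := C.form_swap_zero Φ.ve
theorem QFrame.fv : C.form Φ.P.f Φ.R.f = 0 := C.form_swap_zero Φ.vf

/-- The frame with the pairs exchanged. -/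
def QFrame.flip : QFrame C := ⟨Φ.R, Φ.P, ⟨Φ.ew, Φ.ev⟩, ⟨Φ.fw, Φ.fv⟩⟩

/-- The frame with the vectors of the second pair exchanged. -/
def QFrame.turn : QFrame C := ⟨Φ.P, ⟨Φ.R.f, Φ.R.e, Φ.R.ff, Φ.R.ee, Φ.R.fe⟩, Φ.hf, Φ.he⟩

theorem QFrame.perp_decomp {u : Fin 4 → F} (hu : u ∈ Φ.P.perp) :
    u = C.form u Φ.R.f • Φ.R.e + C.form u Φ.R.e • Φ.R.f := by
  have h : Φ.R.proj u = 0 := by
    set t : Fin 2 → Fin 4 → F := ![Φ.R.e, Φ.R.f] with ht
    have hli : LinearIndependent F t := by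
      rw [LinearIndependent.pair_iff]
      intro a b hab
      have h1 := congrArg (fun z => C.form z Φ.R.e) hab
      have h2 := congrArg (fun z => C.form z Φ.R.f) hab
      simp [C.form_add_left, C.form_smul_left, Φ.R.ee, Φ.R.fe, Φ.R.ef, Φ.R.ff, C.form_zero_left] at h1 h2
      exact ⟨h2, h1⟩
    have hp : ∀ i, t i ∈ Φ.P.perp := by intro i; fin_cases i; exacts [Φ.he, Φ.hf]
    have hspan := (pair_indep Φ.P hli hp).span_eq_top_of_card_eq_finrank (by simp)
    have hr : Φ.R.proj u ∈ Φ.P.perp := by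
      rw [UPair.proj]
      exact Φ.P.perp.sub_mem (Φ.P.perp.sub_mem hu (Φ.P.perp.smul_mem _ Φ.he)) (Φ.P.perp.smul_mem _ Φ.hf)
    refine C.eq_zero_of_form fun z => ?_
    have hz : z ∈ Submodule.span F (Set.range (Sum.elim t ![Φ.P.e, Φ.P.f])) := by rw [hspan]; trivial
    induction hz using Submodule.span_induction with
    | mem y hy =>
      obtain ⟨i | i, rfl⟩ := hy <;> fin_cases i
      exacts [(Φ.R.proj_mem u).1, (Φ.R.proj_mem u).2, hr.1, hr.2]
    | zero => rw [C.form_zero_right]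
    | add a b _ _ ha hb => rw [C.form_add_right, ha, hb, add_zero]
    | smul c a _ ha => rw [C.form_smul_right, ha, mul_zero]
  rw [UPair.proj, sub_sub, sub_eq_zero] at h
  exact h

theorem QFrame.decomp (x : Fin 4 → F) : x = C.form x Φ.P.f • Φ.P.e + C.form x Φ.P.e • Φ.P.f +
    C.form x Φ.R.f • Φ.R.e + C.form x Φ.R.e • Φ.R.f := by
  have h1 : C.form (Φ.P.proj x) Φ.R.f = C.form x Φ.R.f := by
    simp [UPair.proj, C.form_sub_left, C.form_smul_left, Φ.ev, Φ.fv]
  have h2 : C.form (Φ.P.proj x) Φ.R.e = C.form x Φ.R.e := by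
    simp [UPair.proj, C.form_sub_left, C.form_smul_left, Φ.ew, Φ.fw]
  have h3 := Φ.perp_decomp (Φ.P.proj_mem x)
  rw [h1, h2] at h3
  conv_lhs => rw [Φ.P.decomp x, h3, ← add_assoc]

variable (C)

/-- The parameters of the radical at the line. -/
abbrev Tri : Type _ := zset C × F × zset C

variable {C}

theorem qok_smul (a : F) {s : F} (hs : s ∈ zset C) : Qok Φ.P (a • Φ.R.e) s :=
  ⟨Φ.P.perp.smul_mem _ Φ.he, by
    rw [C.form_smul_left, C.form_smul_right, Φ.R.ee, mul_zero, mul_zero, add_zero]; exact hs⟩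

/-- An element of the radical at the line. -/
noncomputable def aEl (H : Tri C) : ↥(Cfsg.SU 4 F q) :=
  qel Φ.P (H.2.1 • Φ.R.e) H.1 * qel Φ.R 0 H.2.2

theorem aEl_mulVec (H : Tri C) (x : Fin 4 → F) :
    (aEl Φ H).1.1 *ᵥ x = x + ((H.1 : F) * C.form x Φ.P.e - C.bar H.2.1 * C.form x Φ.R.e) • Φ.P.e +
      (H.2.1 * C.form x Φ.P.e + (H.2.2 : F) * C.form x Φ.R.e) • Φ.R.e := by
  rw [aEl, suMat_mulVec_mul, qel_tv Φ.R H.2.2.2]
  erw [C.tv_mulVec]
  rw [qel_mulVec Φ.P (qok_smul Φ _ H.1.2)]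
  simp only [C.form_add_left, C.form_smul_left, C.form_smul_right, Φ.we, Φ.R.ee, mul_zero, add_zero]
  module

theorem aEl_add (H H' : Tri C) : aEl Φ (H + H') = aEl Φ H * aEl Φ H' := by
  refine su_ext fun x => ?_
  rw [suMat_mulVec_mul]
  simp only [aEl_mulVec, Prod.fst_add, Prod.snd_add, AddSubgroup.coe_add, map_add, C.form_add_left,
    C.form_smul_left, Φ.P.ee, Φ.ew, Φ.we, Φ.R.ee, mul_zero, add_zero]
  module

theorem aEl_injective : Function.Injective (aEl Φ) := by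
  intro H H' h
  have h1 := congrArg (fun g : ↥(Cfsg.SU 4 F q) => g.1.1 *ᵥ Φ.P.f) h
  have h2 := congrArg (fun g : ↥(Cfsg.SU 4 F q) => g.1.1 *ᵥ Φ.R.f) h
  simp only [aEl_mulVec, Φ.P.fe, Φ.fw, Φ.ve, Φ.R.fe, mul_zero, mul_one, sub_zero, add_zero,
    zero_sub, zero_add] at h1 h2
  have e1 := congrArg (fun z => C.form z Φ.P.f) h1
  have e2 := congrArg (fun z => C.form z Φ.R.f) h1
  have e3 := congrArg (fun z => C.form z Φ.R.f) h2
  simp [C.form_add_left, C.form_smul_left, C.form_neg_left, Φ.P.ef, Φ.P.ff, Φ.wf, Φ.ev, Φ.fv, Φ.R.ef, Φ.R.ff] at e1 e2 e3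
  exact Prod.ext e1 (Prod.ext e2 e3)

theorem aEl_zero : aEl Φ (0 : Tri C) = 1 := by
  have h := aEl_add Φ (0 : Tri C) 0
  rw [add_zero] at h
  exact left_eq_mul.1 h

/-- The pairing of two triples. -/
def pairF (d H : Tri C) : F :=
  (d.1 : F) * H.1 + (d.2.2 : F) * H.2.2 + (C.bar d.2.1 * H.2.1 + d.2.1 * C.bar H.2.1)

theorem pairF_add_left (d d' H : Tri C) : pairF (d + d') H = pairF d H + pairF d' H := by
  simp only [pairF, Prod.fst_add, Prod.snd_add, AddSubgroup.coe_add, map_add]; ring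

theorem pairF_add_right (d H H' : Tri C) : pairF d (H + H') = pairF d H + pairF d H' := by
  simp only [pairF, Prod.fst_add, Prod.snd_add, AddSubgroup.coe_add, map_add]; ring

/-- The character of a triple. -/
noncomputable def triChar (d : Tri C) : AddChar (Tri C) ℂ where
  toFun H := chi F (pairF d H)
  map_zero_eq_one' := by simp [pairF]
  map_add_eq_mul' H H' := by rw [pairF_add_right, AddChar.map_add_eq_mul]

theorem triChar_apply (d H : Tri C) : triChar d H = chi F (pairF d H) := rfl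

theorem triChar_injective : Function.Injective (triChar (C := C)) := by
  classical
  suffices h : ∀ d : Tri C, (∀ H, chi F (pairF d H) = 1) → d = 0 by
    intro d d' he
    refine sub_eq_zero.1 (h _ fun H => ?_)
    have h1 : chi F (pairF d H) = chi F (pairF d' H) := DFunLike.congr_fun he H
    have h2 : pairF d H = pairF (d - d') H + pairF d' H := by rw [← pairF_add_left, sub_add_cancel]
    rw [h2, AddChar.map_add_eq_mul] at h1
    exact mul_right_cancel₀ (AddChar.val_isUnit _ _).ne_zero (h1.trans (one_mul _).symm)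
  rintro ⟨a, β, b⟩ h
  have ha : (a : F) = 0 := chi_separates (C := C) a.2 fun t ht => by
    simpa [pairF] using h (⟨t, ht⟩, 0, 0)
  have hb : (b : F) = 0 := chi_separates (C := C) b.2 fun t ht => by
    simpa [pairF] using h (0, 0, ⟨t, ht⟩)
  have hβ : β = 0 := by
    by_contra hne
    obtain ⟨y, hy⟩ := C.exists_trace (c := (1 : F)) (map_one _)
    have hbb : C.bar β ≠ 0 := by simpa using hne
    have h1 := h (0, y / C.bar β, 0)
    simp only [pairF, ZeroMemClass.coe_zero, mul_zero, add_zero, zero_add, map_div₀, C.bar_bar] at h1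
    rw [mul_div_cancel₀ _ hbb, mul_div_cancel₀ _ hne, hy] at h1
    exact chi_one_ne h1
  exact Prod.ext (Subtype.ext ha) (Prod.ext hβ (Subtype.ext hb))

variable (C) in
/-- The duality of the parameters with themselves. -/
noncomputable def triPairing : Pairing (Tri C) (Tri C) where
  φ :=
    { toFun := triChar
      map_zero' := DFunLike.ext _ _ fun H => by
        rw [AddChar.zero_apply, triChar_apply]
        simp [pairF]
      map_add' := fun d d' => DFunLike.ext _ _ fun H => by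
        rw [AddChar.add_apply, triChar_apply, triChar_apply, triChar_apply, pairF_add_left,
          AddChar.map_add_eq_mul] }
  bij := by
    classical
    let _ : Fintype (zset C) := Fintype.ofFinite _
    exact (Fintype.bijective_iff_injective_and_card _).2 ⟨triChar_injective, AddChar.card_eq.symm⟩

/-! ### The action -/

/-- The set acted on, seen by the radical. -/
def AY (_Φ : QFrame C) (X : Type*) : Type _ := X

variable {X : Type*} [MulAction ↥(Cfsg.SU 4 F q) X]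

noncomputable instance : AddAction (Tri C) (AY Φ X) where
  vadd H x := (show AY Φ X from (aEl Φ H • (show X from x)))
  zero_vadd x := by
    show aEl Φ (0 : Tri C) • (show X from x) = x
    rw [aEl_zero, one_smul]
  add_vadd H H' x := by
    show aEl Φ (H + H') • (show X from x) = aEl Φ H • aEl Φ H' • (show X from x)
    rw [aEl_add, mul_smul]

theorem vadd_ay (H : Tri C) (x : AY Φ X) : (H +ᵥ x : AY Φ X) = (aEl Φ H • (show X from x) : X) := rfl

instance [h : Finite X] : Finite (AY Φ X) := h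

/-! ### Symmetries -/

/-- An element normalising the radical, with its effect on parameters and on characters. -/
structure Sym (Φ : QFrame C) where
  g : ↥(Cfsg.SU 4 F q)
  σ : Tri C → Tri C
  φ : Tri C → Tri C
  conj : ∀ H, g * aEl Φ H * g⁻¹ = aEl Φ (σ H)
  pair : ∀ d H, pairF d (σ H) = pairF (φ d) H

variable {Φ}

theorem Sym.surj (s : Sym Φ) : Function.Surjective s.σ :=
  Finite.surjective_of_injective fun H H' h => aEl_injective Φ
    (mul_left_cancel (mul_right_cancel (((s.conj H).trans (congrArg (aEl Φ) h)).trans (s.conj H').symm)))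

/-- The composite of two symmetries. -/
noncomputable def Sym.comp (s t : Sym Φ) : Sym Φ where
  g := s.g * t.g
  σ H := s.σ (t.σ H)
  φ d := t.φ (s.φ d)
  conj H := by
    rw [← s.conj, ← t.conj]; group
  pair d H := by rw [s.pair, t.pair]

theorem Sym.comp_φ (s t : Sym Φ) (d : Tri C) : (s.comp t).φ d = t.φ (s.φ d) := rfl

theorem Sym.hp (s : Sym Φ) (d H : Tri C) : (triPairing C).φ d (s.σ H) = (triPairing C).φ (s.φ d) H := by
  show chi F (pairF d (s.σ H)) = chi F (pairF (s.φ d) H)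
  rw [s.pair]

/-- The permutation of the set acted on. -/
def Sym.perm (s : Sym Φ) : AY Φ X ≃ AY Φ X := MulAction.toPerm (α := ↥(Cfsg.SU 4 F q)) (β := X) s.g

theorem Sym.perm_vadd (s : Sym Φ) (H : Tri C) (x : AY Φ X) :
    s.perm (H +ᵥ x) = s.σ H +ᵥ s.perm x := by
  show s.g • aEl Φ H • (show X from x) = aEl Φ (s.σ H) • s.g • (show X from x)
  rw [← s.conj, ← mul_smul, ← mul_smul, inv_mul_cancel_right]

variable (Φ)

/-- The symmetry of an element given by its matrix on the line. -/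
noncomputable def Sym.ofLine (g : ↥(Cfsg.SU 4 F q)) (a c b d : F)
    (hge : g.1.1 *ᵥ Φ.P.e = a • Φ.P.e + c • Φ.R.e) (hgw : g.1.1 *ᵥ Φ.R.e = b • Φ.P.e + d • Φ.R.e) :
    Sym Φ where
  g := g
  σ H :=
    (⟨(H.1 : F) * (a * C.bar a) - C.bar H.2.1 * a * C.bar b + H.2.1 * b * C.bar a + (H.2.2 : F) * (b * C.bar b), by
        simp only [mem_zset, map_add, map_sub, map_mul, C.bar_bar, bar_zset H.1.2, bar_zset H.2.2.2]
        ring⟩,
      (H.1 : F) * c * C.bar a - C.bar H.2.1 * c * C.bar b + H.2.1 * d * C.bar a + (H.2.2 : F) * d * C.bar b,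
      ⟨(H.1 : F) * (c * C.bar c) - C.bar H.2.1 * c * C.bar d + H.2.1 * d * C.bar c + (H.2.2 : F) * (d * C.bar d), by
        simp only [mem_zset, map_add, map_sub, map_mul, C.bar_bar, bar_zset H.1.2, bar_zset H.2.2.2]
        ring⟩)
  φ D :=
    (⟨(D.1 : F) * (a * C.bar a) + (D.2.2 : F) * (c * C.bar c) + C.bar D.2.1 * c * C.bar a - D.2.1 * C.bar c * a, by
        simp only [mem_zset, map_add, map_sub, map_mul, C.bar_bar, bar_zset D.1.2, bar_zset D.2.2.2]
        ring⟩,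
      -((D.1 : F) * C.bar b * a) - (D.2.2 : F) * C.bar d * c + D.2.1 * C.bar d * a - C.bar D.2.1 * c * C.bar b,
      ⟨(D.1 : F) * (b * C.bar b) + (D.2.2 : F) * (d * C.bar d) + C.bar D.2.1 * d * C.bar b - D.2.1 * C.bar d * b, by
        simp only [mem_zset, map_add, map_sub, map_mul, C.bar_bar, bar_zset D.1.2, bar_zset D.2.2.2]
        ring⟩)
  conj H := by
    rw [mul_inv_eq_iff_eq_mul]
    refine su_ext fun x => ?_
    have h1 : C.form x Φ.P.e = C.bar a * C.form (g.1.1 *ᵥ x) Φ.P.e + C.bar c * C.form (g.1.1 *ᵥ x) Φ.R.e := by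
      rw [← C.form_su g x Φ.P.e, hge, C.form_add_right, C.form_smul_right, C.form_smul_right]
    have h2 : C.form x Φ.R.e = C.bar b * C.form (g.1.1 *ᵥ x) Φ.P.e + C.bar d * C.form (g.1.1 *ᵥ x) Φ.R.e := by
      rw [← C.form_su g x Φ.R.e, hgw, C.form_add_right, C.form_smul_right, C.form_smul_right]
    rw [suMat_mulVec_mul, suMat_mulVec_mul, aEl_mulVec, aEl_mulVec, Matrix.mulVec_add, Matrix.mulVec_add,
      Matrix.mulVec_smul, Matrix.mulVec_smul, hge, hgw, h1, h2]
    simp only [map_add, map_sub, map_mul, C.bar_bar, bar_zset H.1.2, bar_zset H.2.2.2]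
    module
  pair D H := by
    simp only [pairF, map_add, map_sub, map_mul, map_neg, C.bar_bar, bar_zset H.1.2, bar_zset H.2.2.2,
      bar_zset D.1.2, bar_zset D.2.2.2]
    ring

theorem qok_iso {P : UPair C 4} {u : Fin 4 → F} (hu : u ∈ P.perp) (huu : C.form u u = 0) : Qok P u 0 :=
  ⟨hu, by rw [map_zero, huu, add_zero, add_zero]⟩

/-- The unipotent element adding a multiple of `e` to `w`. -/
noncomputable def upG (r : F) : ↥(Cfsg.SU 4 F q) := qel Φ.P (-(C.bar r) • Φ.R.f) 0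

theorem upG_qok (r : F) : Qok Φ.P (-(C.bar r) • Φ.R.f) (0 : F) :=
  qok_iso (Φ.P.perp.smul_mem _ Φ.hf) (by rw [C.form_smul_left, C.form_smul_right, Φ.R.ff, mul_zero, mul_zero])

/-- The upper unipotent symmetry. -/
noncomputable def Sym.up (r : F) : Sym Φ :=
  Sym.ofLine Φ (upG Φ r) 1 0 r 1
    (by
      rw [upG, qel_mulVec Φ.P (upG_qok Φ r), Φ.P.ee, C.form_smul_right, Φ.ev]
      simp)
    (by
      rw [upG, qel_mulVec Φ.P (upG_qok Φ r), Φ.we, C.form_smul_right, Φ.R.ef, map_neg, C.bar_bar]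
      simp [add_comm])

/-- The lower unipotent symmetry. -/
noncomputable def Sym.low (r : F) : Sym Φ :=
  Sym.ofLine Φ (upG Φ.flip r) 1 r 0 1
    (by
      rw [upG, qel_mulVec Φ.flip.P (upG_qok Φ.flip r)]
      simp [QFrame.flip, C.form_smul_right, C.form_neg_right, C.bar_bar, Φ.P.ef, Φ.ew])
    (by
      rw [upG, qel_mulVec Φ.flip.P (upG_qok Φ.flip r)]
      simp [QFrame.flip, C.form_smul_right, C.form_neg_right, Φ.R.ee, Φ.wf])

/-- A diagonal element of the frame. -/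
noncomputable def diagG (l : F) (hl : l ≠ 0) : ↥(Cfsg.SU 4 F q) :=
  C.mkSU ((Φ.P.torus l hl).1.1 * (Φ.R.torus l⁻¹ (inv_ne_zero hl)).1.1)
    (by
      have hb : C.bar l ≠ 0 := by simpa using hl
      show (C.rmap Φ.P.e Φ.P.f (l - 1) * C.rmap Φ.P.f Φ.P.e ((C.bar l)⁻¹ - 1) *
        (C.rmap Φ.R.e Φ.R.f (l⁻¹ - 1) * C.rmap Φ.R.f Φ.R.e ((C.bar l⁻¹)⁻¹ - 1))).det = 1
      simp only [Matrix.det_mul, C.det_rmap, Φ.P.ef, Φ.P.fe, Φ.R.ef, Φ.R.fe, map_inv₀, inv_inv]
      field_simp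
      ring)
    (fun u v => by
      rw [← Matrix.mulVec_mulVec, ← Matrix.mulVec_mulVec, C.mem_gu_iff.1 (Φ.P.torus l hl).2,
        C.mem_gu_iff.1 (Φ.R.torus l⁻¹ (inv_ne_zero hl)).2])

theorem diagG_mulVec (l : F) (hl : l ≠ 0) (x : Fin 4 → F) : (diagG Φ l hl).1.1 *ᵥ x =
    (Φ.P.torus l hl).1.1 *ᵥ ((Φ.R.torus l⁻¹ (inv_ne_zero hl)).1.1 *ᵥ x) := by
  rw [diagG, UCtx.mkSU_val, ← Matrix.mulVec_mulVec]

theorem diagG_e (l : F) (hl : l ≠ 0) : (diagG Φ l hl).1.1 *ᵥ Φ.P.e = l • Φ.P.e := by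
  rw [diagG_mulVec, UPair.torus_mulVec, UPair.torus_mulVec]
  simp [C.form_add_left, Φ.ew, Φ.ev, Φ.P.ee, Φ.P.ef]
  module

theorem diagG_f (l : F) (hl : l ≠ 0) : (diagG Φ l hl).1.1 *ᵥ Φ.P.f = (C.bar l)⁻¹ • Φ.P.f := by
  rw [diagG_mulVec, UPair.torus_mulVec, UPair.torus_mulVec]
  simp [C.form_add_left, Φ.fw, Φ.fv, Φ.P.fe, Φ.P.ff]
  module

theorem diagG_w (l : F) (hl : l ≠ 0) : (diagG Φ l hl).1.1 *ᵥ Φ.R.e = l⁻¹ • Φ.R.e := by
  rw [diagG_mulVec, UPair.torus_mulVec, UPair.torus_mulVec]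
  simp [C.form_add_left, C.form_smul_left, Φ.we, Φ.wf, Φ.R.ee, Φ.R.ef]
  module

theorem diagG_diag (l : F) (hl : l ≠ 0) : Φ.P.Diag (diagG Φ l hl) l := ⟨diagG_e Φ l hl, diagG_f Φ l hl⟩

/-- The diagonal symmetry. -/
noncomputable def Sym.diag (l : F) (hl : l ≠ 0) : Sym Φ :=
  Sym.ofLine Φ (diagG Φ l hl) l 0 0 l⁻¹ (by rw [diagG_e, zero_smul, add_zero])
    (by rw [diagG_w, zero_smul, zero_add])

variable {Φ}

theorem up_φ (r : F) (D : Tri C) :
    ((((Sym.up Φ r).φ D).1 : F) = D.1) ∧ (((Sym.up Φ r).φ D).2.1 = D.2.1 - (D.1 : F) * C.bar r) ∧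
      ((((Sym.up Φ r).φ D).2.2 : F) =
        (D.2.2 : F) + (D.1 : F) * (r * C.bar r) + C.bar D.2.1 * C.bar r - D.2.1 * r) := by
  simp only [Sym.up, Sym.ofLine, map_one, map_zero]
  refine ⟨?_, ?_, ?_⟩ <;> ring

theorem low_φ (r : F) (D : Tri C) :
    ((((Sym.low Φ r).φ D).1 : F) = (D.1 : F) + (D.2.2 : F) * (r * C.bar r) + C.bar D.2.1 * r - D.2.1 * C.bar r) ∧
      (((Sym.low Φ r).φ D).2.1 = D.2.1 - (D.2.2 : F) * r) ∧
      ((((Sym.low Φ r).φ D).2.2 : F) = D.2.2) := by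
  simp only [Sym.low, Sym.ofLine, map_one, map_zero]
  refine ⟨?_, ?_, ?_⟩ <;> ring

theorem diag_φ (l : F) (hl : l ≠ 0) (D : Tri C) :
    ((((Sym.diag Φ l hl).φ D).1 : F) = (D.1 : F) * (l * C.bar l)) ∧
      (((Sym.diag Φ l hl).φ D).2.1 = D.2.1 * (l / C.bar l)) ∧
      ((((Sym.diag Φ l hl).φ D).2.2 : F) = (D.2.2 : F) / (l * C.bar l)) := by
  simp only [Sym.diag, Sym.ofLine, map_zero, map_inv₀]
  refine ⟨by ring, by ring, ?_⟩
  rw [div_eq_mul_inv, mul_inv]; ring

end CfsgLib.Perm.UnitFour
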