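import Cfsg.Agent.Lib.Perm.UnitFour.Frame
import Cfsg.Agent.Lib.PGroup.UnitIndex.Triv
import Cfsg.Agent.Lib.Classical.PSUSimple

/-!
In a small action of a four-dimensional special unitary group no point is fixed by the whole radical
of an isotropic point.
-/

set_option autoImplicit false
set_option linter.unusedSectionVars false

namespace CfsgLib.Perm.UnitFour

open scoped Matrix
open Matrix Module CfsgLib.SU CfsgLib.PGroup.UnitIndex CfsgLib.Classical CfsgLib.Classical.HermIsoCount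

variable {F : Type*} [Field F] [Fintype F] {q : ℕ} {C : UCtx F q}

local notation "V" => (Fin 4 → F)

variable (C) in
/-- The totally isotropic subspaces of a dimension. -/
abbrev TSub (k : ℕ) : Type _ :=
  {W : Submodule F (Fin 4 → F) // finrank F W = k ∧ ∀ u ∈ W, ∀ v ∈ W, C.form u v = 0}

theorem card_tsub_one (hF : Fintype.card F = q ^ 2) (hq : 2 ≤ q) :
    Nat.card (TSub C 1) = (q ^ 2 + 1) * (q ^ 3 + 1) := by
  have h := card_subspaces C 1 4
  rw [card_frame_succ C (k := 0) (r := 4) (by norm_num), card_frame_zero, Fin.prod_univ_one, hF,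
    one_mul, pow_zero, one_mul, pow_one, Fin.val_zero, pow_zero] at h
  have h4 := isoCount_eq C hF 3
  norm_num at h4
  have h1 : 1 ≤ q ^ 2 := Nat.one_le_pow _ _ (by omega)
  have h' : (Nat.card (TSub C 1) : ℤ) * ((q : ℤ) ^ 2 - 1) = ((q : ℤ) ^ 2 + 1) * (q ^ 3 + 1) * ((q : ℤ) ^ 2 - 1) := by
    have := congrArg (fun m : ℕ => (m : ℤ)) h
    push_cast [h1] at this
    rw [this, h4]; ring
  have h2 : (0 : ℤ) < (q : ℤ) ^ 2 - 1 := by
    have h3 : (4 : ℤ) ≤ (q : ℤ) ^ 2 := by exact_mod_cast Nat.pow_le_pow_left hq 2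
    linarith
  exact_mod_cast mul_right_cancel₀ h2.ne' h'

theorem card_tsub_two (hF : Fintype.card F = q ^ 2) (hq : 2 ≤ q) :
    Nat.card (TSub C 2) = (q + 1) * (q ^ 3 + 1) := by
  have h := card_subspaces C 2 4
  rw [card_frame_succ C (k := 1) (r := 2) (by norm_num), card_frame_succ C (k := 0) (r := 4) (by norm_num),
    card_frame_zero, Fin.prod_univ_two, hF] at h
  simp only [Fin.val_zero, Fin.val_one, pow_zero, one_mul, pow_one] at h
  have h4 := isoCount_eq C hF 3
  have h2 := isoCount_eq C hF 1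
  norm_num at h4 h2
  have e1 : 1 ≤ (q ^ 2) ^ 2 := Nat.one_le_pow _ _ (by positivity)
  have e2 : q ^ 2 ≤ (q ^ 2) ^ 2 := Nat.le_self_pow two_ne_zero _
  have h' : (Nat.card (TSub C 2) : ℤ) * (((q : ℤ) ^ 4 - 1) * ((q : ℤ) ^ 4 - q ^ 2)) =
      ((q : ℤ) + 1) * (q ^ 3 + 1) * (((q : ℤ) ^ 4 - 1) * ((q : ℤ) ^ 4 - q ^ 2)) := by
    have := congrArg (fun m : ℕ => (m : ℤ)) h
    push_cast [e1, e2] at this
    rw [h4, h2] at this
    rw [show ((q : ℤ) ^ 4) = ((q : ℤ) ^ 2) ^ 2 by ring, this]; ring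
  have hq' : (2 : ℤ) ≤ q := by exact_mod_cast hq
  have h3 : (q : ℤ) ^ 2 < (q : ℤ) ^ 4 := pow_lt_pow_right₀ (by linarith) (by norm_num)
  have h5 : (1 : ℤ) ≤ (q : ℤ) ^ 2 := one_le_pow₀ (by linarith)
  exact_mod_cast mul_right_cancel₀ (mul_ne_zero (a := (q : ℤ) ^ 4 - 1) (by linarith) (by linarith)) h'

/-- The special unitary group is transitive on totally isotropic subspaces of a dimension. -/
theorem exists_su_subspace {k : ℕ} (W W' : TSub C k) :
    ∃ g : ↥(Cfsg.SU 4 F q), W.1.map (Matrix.mulVecLin g.1.1) = W'.1 := by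
  classical
  let b := Module.finBasisOfFinrankEq F W.1 W.2.1
  let b' := Module.finBasisOfFinrankEq F W'.1 W'.2.1
  obtain ⟨A, hA⟩ := HermFrames.exists_move_tuple C (t := fun i => (b i : V)) (t' := fun i => (b' i : V))
    (b.linearIndependent.map' W.1.subtype (Submodule.ker_subtype _))
    (b'.linearIndependent.map' W'.1.subtype (Submodule.ker_subtype _))
    fun i j => (W.2.2 _ (b i).2 _ (b j).2).trans (W'.2.2 _ (b' i).2 _ (b' j).2).symm
  obtain ⟨B, hB, hdB⟩ := exists_det_stab C (by norm_num) W.1 W.2.2 (C.detHom A)⁻¹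
  have hdet : ((A * B).1 : GL (Fin 4) F).1.det = 1 := by
    have h1 : C.detHom (A * B) = 1 := by rw [map_mul, hdB, mul_inv_cancel]
    exact congrArg (fun x : C.unitOne => ((x : Fˣ) : F)) h1
  refine ⟨C.mkSU (A * B).1.1 hdet (fun u v => C.mem_gu_iff.1 (A * B).2 u v), ?_⟩
  rw [UCtx.mkSU_val]
  have hAW : ∀ v ∈ W.1, A.1.1 *ᵥ v ∈ W'.1 := by
    intro v hv
    have hle : W.1 ≤ W'.1.comap A.1.1.mulVecLin := by
      intro x hx
      have h' := Submodule.apply_mem_span_image_of_mem_span W.1.subtype (b.mem_span (⟨x, hx⟩ : W.1))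
      refine (Submodule.span_le.2 ?_) h'
      rintro _ ⟨_, ⟨i, rfl⟩, rfl⟩
      show A.1.1 *ᵥ (b i : V) ∈ W'.1
      rw [hA i]
      exact (b' i).2
    exact hle hv
  refine Submodule.eq_of_le_of_finrank_le ?_ ?_
  · rintro _ ⟨v, hv, rfl⟩
    show (A.1.1 * B.1.1) *ᵥ v ∈ W'.1
    rw [← Matrix.mulVec_mulVec]
    exact hAW _ (hB v hv)
  · rw [W'.2.1]
    refine le_of_eq (W.2.1.symm.trans (LinearEquiv.finrank_eq (Submodule.equivMapOfInjective _ ?_ _)))
    exact Matrix.mulVec_injective_iff_isUnit.2 (A * B).1.isUnit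

/-! ### The full points -/

variable {X : Type*} [MulAction ↥(Cfsg.SU 4 F q) X]

/-- Every Eichler element at the vector fixes the point. -/
def Good (C : UCtx F q) (x : X) (v : Fin 4 → F) : Prop :=
  ∃ P : UPair C 4, P.e = v ∧ ∀ u t, Qok P u t → qel P u t • x = x

theorem Good.iso {x : X} {v : V} (h : Good C x v) : C.form v v = 0 ∧ v ≠ 0 := by
  obtain ⟨P, rfl, -⟩ := h
  exact ⟨P.ee, P.e_ne_zero⟩

theorem qel_change {P P' : UPair C 4} (he : P'.e = P.e) {u : V} {t : F} (h : Qok P' u t) :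
    ∃ u' t', Qok P u' t' ∧ qel P' u t = qel P u' t' := by
  set k := C.form u P.f with hk
  have hue : C.form u P.e = 0 := he ▸ h.1.1
  have hp : u = k • P.e + P.proj u := by
    conv_lhs => rw [P.decomp u, hue, zero_smul, add_zero]
  have hq : Qok P (P.proj u) (t + k - C.bar k) := by
    refine ⟨P.proj_mem u, ?_⟩
    have h2 := h.2
    rw [P.form_decomp u u, hue] at h2
    simp only [map_sub, map_add, C.bar_bar, map_zero, mul_zero, zero_mul, zero_add] at h2 ⊢
    linear_combination h2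
  refine ⟨_, _, hq, su_ext fun x => ?_⟩
  rw [qel_mulVec P' h, qel_mulVec P hq, he]
  conv_lhs => rw [hp]
  rw [C.form_add_right, C.form_smul_right]
  module

theorem qel_scale (P : UPair C 4) {a : F} (ha : a ≠ 0) :
    ∃ P' : UPair C 4, P'.e = a • P.e ∧ ∀ u t, Qok P' u t → ∃ u' t', Qok P u' t' ∧ qel P' u t = qel P u' t' := by
  have hb : C.bar a ≠ 0 := by simpa using ha
  let P' : UPair C 4 := ⟨a • P.e, (C.bar a)⁻¹ • P.f, by rw [C.form_smul_left, C.form_smul_right, P.ee, mul_zero, mul_zero],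
    by rw [C.form_smul_left, C.form_smul_right, P.ff, mul_zero, mul_zero],
    by rw [C.form_smul_left, C.form_smul_right, P.ef, map_inv₀, C.bar_bar, mul_one, mul_inv_cancel₀ ha]⟩
  refine ⟨P', rfl, fun u t h => ?_⟩
  have hq : Qok P (C.bar a • u) (a * C.bar a * t) := by
    have he1 := h.1.1
    have hf1 := h.1.2
    rw [C.form_smul_right] at he1 hf1
    refine ⟨P.perp.smul_mem _ ⟨(mul_eq_zero.1 he1).resolve_left hb, (mul_eq_zero.1 hf1).resolve_left ?_⟩, ?_⟩
    · simpa using ha
    · rw [C.form_smul_left, C.form_smul_right, C.bar_bar, map_mul, map_mul, C.bar_bar]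
      linear_combination (a * C.bar a) * h.2
  refine ⟨_, _, hq, su_ext fun x => ?_⟩
  rw [qel_mulVec P' h, qel_mulVec P hq, C.form_smul_right, C.form_smul_right, C.bar_bar]
  module

theorem Good.smul {x : X} {v : V} (h : Good C x v) {a : F} (ha : a ≠ 0) : Good C x (a • v) := by
  obtain ⟨P, rfl, hP⟩ := h
  obtain ⟨P', hP', hq⟩ := qel_scale P ha
  refine ⟨P', hP', fun u t h => ?_⟩
  obtain ⟨u', t', h', he⟩ := hq u t h
  rw [he]
  exact hP u' t' h'

theorem Good.fix {x : X} {P : UPair C 4} (h : Good C x P.e) {u : V} {t : F} (hut : Qok P u t) :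
    qel P u t • x = x := by
  obtain ⟨P', hP', hfix⟩ := h
  obtain ⟨u', t', h', he⟩ := qel_change hP'.symm hut
  rw [he]
  exact hfix u' t' h'

theorem Good.map {x : X} {v : V} (h : Good C x v) (g : ↥(Cfsg.SU 4 F q)) :
    Good C (g • x) (g.1.1 *ᵥ v) := by
  obtain ⟨P, rfl, hP⟩ := h
  let P' : UPair C 4 := ⟨g.1.1 *ᵥ P.e, g.1.1 *ᵥ P.f, by rw [C.form_su, P.ee], by rw [C.form_su, P.ff],
    by rw [C.form_su, P.ef]⟩
  refine ⟨P', rfl, fun u t h => ?_⟩
  set u₀ := (g⁻¹).1.1 *ᵥ u with hu₀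
  have hu : u = g.1.1 *ᵥ u₀ := by rw [hu₀, su_mulVec_inv]
  have h1 := h.1
  have h2 := h.2
  rw [hu] at h1 h2
  rw [C.form_su] at h2
  have hq : Qok P u₀ t := ⟨⟨(C.form_su g u₀ P.e).symm.trans h1.1, (C.form_su g u₀ P.f).symm.trans h1.2⟩, h2⟩
  have he : qel P' u t = g * qel P u₀ t * g⁻¹ := by
    rw [eq_mul_inv_iff_mul_eq]
    refine su_ext fun y => ?_
    rw [suMat_mulVec_mul, suMat_mulVec_mul, qel_mulVec P' h, qel_mulVec P hq, Matrix.mulVec_add,
      Matrix.mulVec_add, Matrix.mulVec_smul, Matrix.mulVec_smul, hu]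
    show g.1.1 *ᵥ y + C.form (g.1.1 *ᵥ y) (g.1.1 *ᵥ P.e) • _ +
      (t * C.form (g.1.1 *ᵥ y) (g.1.1 *ᵥ P.e) - C.form (g.1.1 *ᵥ y) (g.1.1 *ᵥ u₀)) • (g.1.1 *ᵥ P.e) = _
    rw [C.form_su, C.form_su]
  rw [he, mul_smul, inv_smul_smul, mul_smul, hP u₀ t hq]

/-- From two good points that are not orthogonal, every point not orthogonal to one of them is good. -/
theorem Good.spread {x : X} {y e z : V} (hy : Good C x y) (he : Good C x e) (hye : C.form e y ≠ 0)
    (hz : C.form z z = 0) (hzy : C.form z y ≠ 0) : Good C x z := by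
  obtain ⟨hyy, hy0⟩ := hy.iso
  obtain ⟨hee, -⟩ := he.iso
  set c := C.bar (C.form y e) with hc
  have hc' : c = C.form e y := by rw [hc, C.bar_form]
  have hc0 : c ≠ 0 := hc' ▸ hye
  let P : UPair C 4 := ⟨y, c⁻¹ • e, hyy, by rw [C.form_smul_left, C.form_smul_right, hee, mul_zero, mul_zero],
    by rw [C.form_smul_right, map_inv₀, hc, C.bar_bar,
      inv_mul_cancel₀ (fun h => hye (C.form_swap_zero h))]⟩
  obtain ⟨u, hu, t, ht, hd⟩ := P.exists_eich_point hz hzy
  have h1 := (he.smul (inv_ne_zero hc0)).map (qel P u t)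
  rw [Good.fix (P := P) hy (show Qok P u t from ⟨hu, ht⟩)] at h1
  have h2 := h1.smul hzy
  rw [qel_eq P ⟨hu, ht⟩] at h2
  exact hd ▸ h2

variable (hF : Fintype.card F = q ^ 2) (hq : 2 ≤ q)
include hF hq

/-- Two good points are orthogonal unless the whole group fixes the point. -/
theorem Good.orth {x : X} {v v' : V} (h : Good C x v) (h' : Good C x v') (hne : C.form v v' ≠ 0)
    (g : ↥(Cfsg.SU 4 F q)) : g • x = x := by
  classical
  have hne' : C.form v' v ≠ 0 := fun h0 => hne (C.form_swap_zero h0)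
  have hall : ∀ z : V, z ≠ 0 → C.form z z = 0 → Good C x z := by
    intro z hz0 hzz
    by_cases hzv : C.form z v = 0
    swap
    · exact h.spread h' hne' hzz hzv
    obtain ⟨y, hyy, hyv, hzy⟩ : ∃ y, C.form y y = 0 ∧ C.form y v ≠ 0 ∧ C.form z y ≠ 0 := by
      by_contra hcon
      simp only [not_exists, not_and, not_not] at hcon
      obtain ⟨hvv, hv0⟩ := h.iso
      obtain ⟨y₀, hy₀⟩ := C.exists_form_eq_one hv0
      obtain ⟨κ, h1, h2⟩ := C.exists_partner hvv (y := y₀) (by rw [← C.bar_form, hy₀, map_one])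
      let P : UPair C 4 := ⟨v, y₀ + κ • v, hvv, h1, h2⟩
      have key : ∀ u ∈ P.perp, C.form z u = 0 ∧ C.form z P.f = 0 := by
        intro u hu
        obtain ⟨t, ht⟩ := qok_exists P hu
        have e1 : (qel P u t).1.1 *ᵥ P.f = P.f + u + t • P.e := by rw [qel_eq P ht]; exact P.eich_f _ _ _ _
        have e2 : (qel P u t).1.1 *ᵥ P.e = P.e := by rw [qel_eq P ht]; exact P.eich_e _ _ _ _
        have h3 := hcon ((qel P u t).1.1 *ᵥ P.f) (by rw [C.form_su, P.ff]) (by
          show C.form ((qel P u t).1.1 *ᵥ P.f) P.e ≠ 0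
          conv_lhs => arg 3; rw [← e2]
          rw [C.form_su, P.fe]; exact one_ne_zero)
        have h4 := hcon P.f P.ff (by show C.form P.f P.e ≠ 0; rw [P.fe]; exact one_ne_zero)
        rw [e1, C.form_add_right, C.form_add_right, C.form_smul_right, h4,
          show C.form z P.e = 0 from hzv, mul_zero, add_zero, zero_add] at h3
        exact ⟨h3, h4⟩
      refine hz0 (C.eq_zero_of_form fun w => ?_)
      rw [P.decomp w, C.form_add_right, C.form_add_right, C.form_smul_right, C.form_smul_right,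
        (key _ (P.proj_mem w)).1, (key 0 P.perp.zero_mem).2, show C.form z P.e = 0 from hzv]
      simp
    exact (h.spread h' hne' hyy hyv).spread h (fun h0 => hyv (C.form_swap_zero h0)) hzz hzy
  suffices hs : ∀ g ∈ {A : ↥(Cfsg.SU 4 F q) | ∃ (v : Fin 4 → F) (c : F), Cfsg.hermForm 4 F q v v = 0 ∧
      ((A : Matrix.SpecialLinearGroup (Fin 4) F) : Matrix (Fin 4) (Fin 4) F) =
        Cfsg.unitaryTransvection 4 q v c}, g ∈ MulAction.stabilizer (↥(Cfsg.SU 4 F q)) x by
    have h1 := (Subgroup.closure_le _).2 hs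
    rw [CfsgLib.Perm.Trans.Unit.su_closure hF 4 (by omega) (by omega)] at h1
    exact h1 (Subgroup.mem_top g)
  rintro A ⟨z, c, hz, hA⟩
  rw [MulAction.mem_stabilizer_iff]
  have hAv : ∀ y, A.1.1 *ᵥ y = y + (c * C.form y z) • z := fun y => by
    rw [hA, CfsgLib.Perm.Trans.Unit.unitaryTransvection_mulVec, CfsgLib.Perm.Trans.Unit.hermForm_eq_form C]
  rw [CfsgLib.Perm.Trans.Unit.hermForm_eq_form C] at hz
  rcases eq_or_ne z 0 with rfl | hz0
  · rw [show A = 1 from su_ext fun y => by rw [hAv, su_one_mulVec]; simp, one_smul]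
  obtain ⟨y, hy⟩ := C.exists_form_eq_one hz0
  have hct : c ∈ zset C := by
    have h2 := C.form_su A y y
    have hvy : C.form z y = 1 := by rw [← C.bar_form, hy, map_one]
    simp only [hAv, hy, hvy, C.form_add_left, C.form_add_right, C.form_smul_left, C.form_smul_right, hz,
      mul_one] at h2
    rw [mem_zset]
    linear_combination h2
  obtain ⟨P, rfl, hfix⟩ := hall z hz0 hz
  have e : A = qel P 0 c := by
    rw [qel_tv P hct]
    exact su_ext fun w => by rw [hAv]; erw [C.tv_mulVec]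
  rw [e]
  exact hfix 0 c (qok_zero P hct)

omit hF hq in
/-- The span of the good points. -/
def goodSpan (C : UCtx F q) (x : X) : Submodule F V := Submodule.span F {v | Good C x v}

theorem goodSpan_map (g : ↥(Cfsg.SU 4 F q)) (x : X) :
    (goodSpan C x).map (Matrix.mulVecLin g.1.1) = goodSpan C (g • x) := by
  rw [goodSpan, goodSpan, Submodule.map_span]
  refine congrArg _ (Set.ext fun v => ⟨?_, fun h => ⟨(g⁻¹).1.1 *ᵥ v, ?_, ?_⟩⟩)
  · rintro ⟨u, hu, rfl⟩
    exact hu.map g
  · have := h.map g⁻¹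
    rwa [inv_smul_smul] at this
  · exact su_mulVec_inv g v

/-- No point is fixed by the radical of an isotropic point. -/
theorem no_good [Finite X] (hsmall : Nat.card X < (q + 1) * (q ^ 3 + 1))
    (hmove : ∀ x : X, ∃ g : ↥(Cfsg.SU 4 F q), g • x ≠ x) (x : X) (P : UPair C 4)
    (hfix : ∀ u t, Qok P u t → qel P u t • x = x) : False := by
  classical
  set U := goodSpan C x with hU
  have hgood : Good C x P.e := ⟨P, rfl, hfix⟩
  have hts : ∀ a ∈ U, ∀ b ∈ U, C.form a b = 0 := by
    intro a ha b hb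
    rw [hU, goodSpan] at ha
    induction ha using Submodule.span_induction with
    | mem v hv =>
      rw [hU, goodSpan] at hb
      induction hb using Submodule.span_induction with
      | mem v' hv' =>
        by_contra hne
        obtain ⟨g, hg⟩ := hmove x
        exact hg (Good.orth hF hq hv hv' hne g)
      | zero => rw [C.form_zero_right]
      | add a b _ _ h1 h2 => rw [C.form_add_right, h1, h2, add_zero]
      | smul c a _ h1 => rw [C.form_smul_right, h1, mul_zero]
    | zero => rw [C.form_zero_left]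
    | add a b _ _ h1 h2 => rw [C.form_add_left, h1, h2, add_zero]
    | smul c a _ h1 => rw [C.form_smul_left, h1, mul_zero]
  have heU : P.e ∈ U := Submodule.subset_span hgood
  have hdim1 : 1 ≤ finrank F U := by
    rw [Nat.one_le_iff_ne_zero]
    intro h0
    rw [Submodule.finrank_eq_zero] at h0
    exact P.e_ne_zero ((Submodule.mem_bot F).1 (h0 ▸ heU))
  have hdim2 : finrank F U ≤ 2 := by
    set M := U ⊓ P.perp with hM
    have h1 : U ≤ Submodule.span F {P.e} ⊔ M := by
      intro u hu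
      have hd : u = C.form u P.f • P.e + P.proj u := by
        conv_lhs => rw [P.decomp u, hts u hu P.e heU, zero_smul, add_zero]
      have hpu : P.proj u ∈ U := by
        have : P.proj u = u - C.form u P.f • P.e := eq_sub_of_add_eq' hd.symm
        rw [this]; exact U.sub_mem hu (U.smul_mem _ heU)
      rw [hd]
      exact Submodule.add_mem_sup (Submodule.mem_span_singleton.2 ⟨_, rfl⟩) ⟨hpu, P.proj_mem u⟩
    have h2 := ts_finrank P (M := M) inf_le_right fun a ha b hb => hts a ha.1 b hb.1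
    have h3 := (Submodule.finrank_mono h1).trans (Submodule.finrank_add_le_finrank_add_finrank _ _)
    rw [finrank_span_singleton P.e_ne_zero] at h3
    omega
  haveI : Finite (Submodule F V) :=
    Finite.of_injective (fun W : Submodule F V => (W : Set V)) SetLike.coe_injective
  have hbound : Nat.card (TSub C (finrank F U)) ≤ Nat.card X := by
    have hex : ∀ W : TSub C (finrank F U), ∃ y : X, goodSpan C y = W.1 := by
      intro W
      obtain ⟨g, hg⟩ := exists_su_subspace (⟨U, rfl, hts⟩ : TSub C (finrank F U)) W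
      exact ⟨g • x, by rw [← goodSpan_map hF hq]; exact hg⟩
    choose f hf using hex
    exact Nat.card_le_card_of_injective f fun a b h => Subtype.ext (by rw [← hf a, ← hf b, h])
  rcases (show finrank F U = 1 ∨ finrank F U = 2 by omega) with h | h <;> rw [h] at hbound
  · rw [card_tsub_one hF hq] at hbound
    have : (q + 1) * (q ^ 3 + 1) ≤ (q ^ 2 + 1) * (q ^ 3 + 1) :=
      Nat.mul_le_mul_right _ (Nat.add_le_add_right (Nat.le_self_pow two_ne_zero q) 1)
    omega
  · rw [card_tsub_two hF hq] at hbound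
    omega

end CfsgLib.Perm.UnitFour
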