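import Cfsg.Agent.Lib.Perm.UnitFour.FullPoint

/-!
The radical of an isotropic point, acting on the orbits of its centre, and the comparison with the
radical at a line.
-/

set_option autoImplicit false
set_option linter.unusedSectionVars false

namespace CfsgLib.Perm.UnitFour

open scoped Matrix
open Matrix Module CfsgLib.SU CfsgLib.PGroup.UnitIndex

variable {F : Type*} [Field F] [Fintype F] {q : ℕ} {C : UCtx F q}

variable (C) in
/-- The parameters of transvections at `e`. -/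
def zSub : AddSubgroup (Tri C) where
  carrier := {H | H.2.1 = 0 ∧ (H.2.2 : F) = 0}
  zero_mem' := ⟨rfl, rfl⟩
  add_mem' := fun {a b} ha hb => ⟨by rw [Prod.snd_add, Prod.fst_add, ha.1, hb.1, add_zero],
    by rw [Prod.snd_add, Prod.snd_add, AddSubgroup.coe_add, ha.2, hb.2, add_zero]⟩
  neg_mem' := fun {a} ha => ⟨by rw [Prod.snd_neg, Prod.fst_neg, ha.1, neg_zero],
    by rw [Prod.snd_neg, Prod.snd_neg, AddSubgroup.coe_neg, ha.2, neg_zero]⟩

variable (C) in
/-- The common part of the radicals at the point and at the line. -/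
def mSub : AddSubgroup (Tri C) where
  carrier := {H | (H.2.2 : F) = 0}
  zero_mem' := rfl
  add_mem' := fun {a b} (ha : (a.2.2 : F) = 0) (hb : (b.2.2 : F) = 0) => show ((a + b).2.2 : F) = 0 by
    rw [Prod.snd_add, Prod.snd_add, AddSubgroup.coe_add, ha, hb, add_zero]
  neg_mem' := fun {a} (ha : (a.2.2 : F) = 0) => show ((-a).2.2 : F) = 0 by
    rw [Prod.snd_neg, Prod.snd_neg, AddSubgroup.coe_neg, ha, neg_zero]

theorem mem_ann_zSub (d : Tri C) : d ∈ (triPairing C).ann (zSub C) ↔ (d.1 : F) = 0 := by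
  constructor
  · intro h
    refine chi_separates (C := C) d.1.2 fun t ht => ?_
    have h1 : chi F (pairF d (⟨t, ht⟩, 0, 0)) = 1 := h (⟨t, ht⟩, 0, 0) ⟨rfl, rfl⟩
    simpa [pairF] using h1
  · intro h H hH
    show chi F (pairF d H) = 1
    rw [pairF, hH.1, hH.2, h, map_zero]
    simp

theorem mem_ann_mSub (d : Tri C) : d ∈ (triPairing C).ann (mSub C) ↔ (d.1 : F) = 0 ∧ d.2.1 = 0 := by
  constructor
  · intro h
    refine ⟨(mem_ann_zSub d).1 fun H hH => h H hH.2, ?_⟩
    by_contra hne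
    obtain ⟨y, hy⟩ := C.exists_trace (c := (1 : F)) (map_one _)
    have hbb : C.bar d.2.1 ≠ 0 := by simpa using hne
    have h1 : chi F (pairF d (0, y / C.bar d.2.1, 0)) = 1 := h (0, y / C.bar d.2.1, 0) rfl
    simp only [pairF, ZeroMemClass.coe_zero, mul_zero, add_zero, zero_add, map_div₀, C.bar_bar] at h1
    rw [mul_div_cancel₀ _ hbb, mul_div_cancel₀ _ hne, hy] at h1
    exact chi_one_ne h1
  · intro h H (hH : (H.2.2 : F) = 0)
    show chi F (pairF d H) = 1
    rw [pairF, h.1, h.2, hH, map_zero]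
    simp

variable (Φ : QFrame C) {X : Type*} [MulAction ↥(Cfsg.SU 4 F q) X]

/-- The orbits of the transvections at `e`. -/
def PY (Φ : QFrame C) (X : Type*) [MulAction ↥(Cfsg.SU 4 F q) X] : Type _ :=
  AddAction.orbitRel.Quotient (zSub C) (AY Φ X)

instance [Finite X] : Finite (PY Φ X) := Quotient.finite _

/-- The class of a point. -/
noncomputable def pyMk (x : X) : PY Φ X := (⟦(show AY Φ X from x)⟧ : AddAction.orbitRel.Quotient (zSub C) (AY Φ X))

theorem aEl_of_t_zero {H : Tri C} (h : (H.2.2 : F) = 0) : aEl Φ H = qel Φ.P (H.2.1 • Φ.R.e) H.1 := by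
  rw [aEl, h, qel_zero, mul_one]

theorem aEl_of_zSub {H : Tri C} (h : H ∈ zSub C) : aEl Φ H = qel Φ.P 0 H.1 := by
  rw [aEl_of_t_zero Φ h.2, h.1, zero_smul]

theorem pyMk_eq {x x' : X} : pyMk Φ x = pyMk Φ x' ↔ ∃ z ∈ zset C, qel Φ.P 0 z • x' = x := by
  constructor
  · intro h
    obtain ⟨⟨H, hH⟩, h⟩ := Quotient.exact (s := AddAction.orbitRel (zSub C) (AY Φ X)) h
    refine ⟨H.1, H.1.2, ?_⟩
    rw [← aEl_of_zSub Φ hH]
    exact h
  · rintro ⟨z, hz, h⟩
    refine Quotient.sound (s := AddAction.orbitRel (zSub C) (AY Φ X)) ⟨⟨(⟨z, hz⟩, 0, 0), rfl, rfl⟩, ?_⟩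
    show aEl Φ (⟨z, hz⟩, 0, 0) • (x' : X) = x
    rw [aEl_of_zSub Φ (show ((⟨z, hz⟩, 0, 0) : Tri C) ∈ zSub C from ⟨rfl, rfl⟩)]
    exact h

theorem pyMk_surj (y : PY Φ X) : ∃ x : X, pyMk Φ x = y := by
  induction y using Quotient.ind with
  | _ x => exact ⟨x, rfl⟩

/-- An admissible scalar. -/
noncomputable def tau (u : Φ.P.perp) : F := (qok_exists Φ.P u.2).choose

theorem tau_ok (u : Φ.P.perp) : Qok Φ.P u.1 (tau Φ u) := (qok_exists Φ.P u.2).choose_spec

theorem qel_pyMk {u : Fin 4 → F} {t : F} (h : Qok Φ.P u t) (x : X) :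
    pyMk Φ (qel Φ.P u t • x) = pyMk Φ (qel Φ.P u (tau Φ ⟨u, h.1⟩) • x) := by
  have h0 := tau_ok Φ ⟨u, h.1⟩
  have hd := qok_diff Φ.P h0 h
  exact (pyMk_eq Φ).2 ⟨_, hd, by rw [← mul_smul, qel_zero_mul Φ.P h0 hd, add_sub_cancel]⟩

/-- The orthogonal of the pair acts on the orbits of the transvections. -/
noncomputable instance : AddAction Φ.P.perp (PY Φ X) where
  vadd u y := Quotient.liftOn (s := AddAction.orbitRel (zSub C) (AY Φ X)) y
    (fun x => pyMk Φ (qel Φ.P u.1 (tau Φ u) • (show X from x))) fun x x' h => by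
      obtain ⟨z, hz, h'⟩ := (pyMk_eq Φ).1 (Quotient.sound h : pyMk Φ (show X from x) = pyMk Φ (show X from x'))
      refine (pyMk_eq Φ).2 ⟨z, hz, ?_⟩
      rw [← h', ← mul_smul, qel_zero_mul Φ.P (tau_ok Φ u) hz, ← qel_mul_zero Φ.P (tau_ok Φ u) hz, mul_smul]
  zero_vadd y := by
    obtain ⟨x, rfl⟩ := pyMk_surj Φ y
    show pyMk Φ (qel Φ.P (0 : Φ.P.perp).1 (tau Φ 0) • x) = pyMk Φ x
    have h := qel_pyMk Φ (X := X) (qok_zero Φ.P (zset C).zero_mem) x
    rw [qel_zero, one_smul] at h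
    exact h.symm
  add_vadd u v y := by
    obtain ⟨x, rfl⟩ := pyMk_surj Φ y
    show pyMk Φ (qel Φ.P (u + v).1 (tau Φ (u + v)) • x) =
      pyMk Φ (qel Φ.P u.1 (tau Φ u) • qel Φ.P v.1 (tau Φ v) • x)
    rw [← mul_smul, qel_mul Φ.P (tau_ok Φ u) (tau_ok Φ v)]
    exact (qel_pyMk Φ (qok_mul Φ.P (tau_ok Φ u) (tau_ok Φ v)) x).symm

theorem vadd_pyMk {u : Fin 4 → F} {t : F} (h : Qok Φ.P u t) (x : X) :
    ((⟨u, h.1⟩ : Φ.P.perp) +ᵥ pyMk Φ x : PY Φ X) = pyMk Φ (qel Φ.P u t • x) := (qel_pyMk Φ h x).symm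

/-! ### Characters of the orthogonal -/

/-- The character of a vector. -/
noncomputable def perpChar (v : Φ.P.perp) : AddChar Φ.P.perp ℂ where
  toFun u := chi F (C.form v.1 u.1 + C.form u.1 v.1)
  map_zero_eq_one' := by simp [C.form_zero_left, C.form_zero_right]
  map_add_eq_mul' u u' := by
    rw [← AddChar.map_add_eq_mul, Submodule.coe_add, C.form_add_left, C.form_add_right]
    congr 1; ring

theorem perpChar_apply (v u : Φ.P.perp) : perpChar Φ v u = chi F (C.form v.1 u.1 + C.form u.1 v.1) := rfl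

/-- A vector whose character is trivial on a line is orthogonal to it. -/
theorem form_eq_zero_of_chi {v z : Fin 4 → F}
    (h : ∀ a : F, chi F (C.form v (a • z) + C.form (a • z) v) = 1) : C.form v z = 0 := by
  by_contra hne
  obtain ⟨y, hy⟩ := C.exists_trace (c := (1 : F)) (map_one _)
  have h1 := h (C.bar (y / C.form v z))
  have h2 : C.form v (C.bar (y / C.form v z) • z) = y := by
    rw [C.form_smul_right, C.bar_bar, div_mul_cancel₀ _ hne]
  rw [← C.bar_form v (C.bar (y / C.form v z) • z), h2, hy] at h1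
  exact chi_one_ne h1

theorem perpChar_injective : Function.Injective (perpChar Φ) := by
  intro v v' he
  refine sub_eq_zero.1 (Subtype.ext ?_)
  have key : ∀ u : Φ.P.perp, chi F (C.form (v - v').1 u.1 + C.form u.1 (v - v').1) = 1 := fun u => by
    have h1 : chi F (C.form v.1 u.1 + C.form u.1 v.1) = chi F (C.form v'.1 u.1 + C.form u.1 v'.1) :=
      DFunLike.congr_fun he u
    have h2 : C.form v.1 u.1 + C.form u.1 v.1 = (C.form (v - v').1 u.1 + C.form u.1 (v - v').1) +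
        (C.form v'.1 u.1 + C.form u.1 v'.1) := by
      rw [Submodule.coe_sub, C.form_sub_left, C.form_sub_right]; ring
    rw [h2, AddChar.map_add_eq_mul] at h1
    exact mul_right_cancel₀ (AddChar.val_isUnit _ _).ne_zero (h1.trans (one_mul _).symm)
  set d := (v - v').1 with hd
  have hp : d ∈ Φ.P.perp := (v - v').2
  have e1 : C.form d Φ.R.e = 0 :=
    form_eq_zero_of_chi fun a => key ⟨a • Φ.R.e, Φ.P.perp.smul_mem a Φ.he⟩
  have e2 : C.form d Φ.R.f = 0 :=
    form_eq_zero_of_chi fun a => key ⟨a • Φ.R.f, Φ.P.perp.smul_mem a Φ.hf⟩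
  rw [Φ.perp_decomp hp, e1, e2, zero_smul, zero_smul, add_zero]
  rfl

/-- The duality of the orthogonal with itself. -/
noncomputable def perpPairing : Pairing Φ.P.perp Φ.P.perp where
  φ :=
    { toFun := perpChar Φ
      map_zero' := DFunLike.ext _ _ fun u => by
        rw [AddChar.zero_apply, perpChar_apply]
        simp [C.form_zero_left, C.form_zero_right]
      map_add' := fun v v' => DFunLike.ext _ _ fun u => by
        rw [AddChar.add_apply, perpChar_apply, perpChar_apply, perpChar_apply, ← AddChar.map_add_eq_mul,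
          Submodule.coe_add, C.form_add_left, C.form_add_right]
        congr 1; ring }
  bij := by
    classical
    let _ : Fintype Φ.P.perp := Fintype.ofFinite _
    exact (Fintype.bijective_iff_injective_and_card _).2 ⟨perpChar_injective Φ, AddChar.card_eq.symm⟩

/-- The line of `w`. -/
def lineSub : AddSubgroup Φ.P.perp where
  carrier := {u | ∃ a : F, u.1 = a • Φ.R.e}
  zero_mem' := ⟨0, (zero_smul F Φ.R.e).symm⟩
  add_mem' := fun {u v} ⟨a, ha⟩ ⟨b, hb⟩ => ⟨a + b, by rw [Submodule.coe_add, ha, hb, add_smul]⟩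
  neg_mem' := fun {u} ⟨a, ha⟩ => ⟨-a, by rw [Submodule.coe_neg, ha, neg_smul]⟩

theorem mem_ann_lineSub (v : Φ.P.perp) :
    v ∈ (perpPairing Φ).ann (lineSub Φ) ↔ v ∈ lineSub Φ := by
  constructor
  · intro h
    have e1 : C.form v.1 Φ.R.e = 0 :=
      form_eq_zero_of_chi fun a => h ⟨a • Φ.R.e, Φ.P.perp.smul_mem a Φ.he⟩ ⟨a, rfl⟩
    refine ⟨C.form v.1 Φ.R.f, ?_⟩
    conv_lhs => rw [Φ.perp_decomp v.2, e1, zero_smul, add_zero]
  · rintro ⟨b, hb⟩ u ⟨a, ha⟩
    show chi F (C.form v.1 u.1 + C.form u.1 v.1) = 1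
    simp [ha, hb, C.form_smul_left, C.form_smul_right, Φ.R.ee]

/-! ### Comparing the orbit counts -/

theorem norb_zSub : Nat.card (AddAction.orbitRel.Quotient (zSub C) (AY Φ X)) = Nat.card (PY Φ X) := rfl

theorem norb_mSub :
    Nat.card (AddAction.orbitRel.Quotient (mSub C) (AY Φ X)) =
      Nat.card (AddAction.orbitRel.Quotient (lineSub Φ) (PY Φ X)) := by
  refine Nat.card_congr (Equiv.ofBijective (Quotient.lift
    (fun x : AY Φ X => (⟦pyMk Φ (show X from x)⟧ : AddAction.orbitRel.Quotient (lineSub Φ) (PY Φ X))) ?_) ⟨?_, ?_⟩)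
  · rintro x x' ⟨⟨H, hH⟩, h⟩
    refine Quotient.sound ⟨⟨⟨H.2.1 • Φ.R.e, Φ.P.perp.smul_mem _ Φ.he⟩, H.2.1, rfl⟩, ?_⟩
    show (⟨H.2.1 • Φ.R.e, _⟩ : Φ.P.perp) +ᵥ pyMk Φ (show X from x') = pyMk Φ (show X from x)
    rw [← show aEl Φ H • (show X from x') = (show X from x) from h, aEl_of_t_zero Φ hH,
      ← vadd_pyMk Φ (qok_smul Φ H.2.1 H.1.2)]
  · intro a b
    induction a using Quotient.ind with
    | _ x =>
      induction b using Quotient.ind with
      | _ x' =>
        intro h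
        have h0 : (⟦pyMk Φ (show X from x)⟧ : AddAction.orbitRel.Quotient (lineSub Φ) (PY Φ X)) =
            ⟦pyMk Φ (show X from x')⟧ := h
        obtain ⟨⟨u, a, ha⟩, hu⟩ := Quotient.exact h0
        have hu' : u +ᵥ pyMk Φ (show X from x') = pyMk Φ (show X from x) := hu
        have hq : Qok Φ.P (a • Φ.R.e) (0 : F) := qok_smul Φ a (zset C).zero_mem
        rw [show u = ⟨a • Φ.R.e, hq.1⟩ from Subtype.ext ha, vadd_pyMk Φ hq, pyMk_eq] at hu'
        obtain ⟨z, hz, hz'⟩ := hu'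
        -- undo the transvection
        refine Quotient.sound ⟨⟨(⟨-z, (zset C).neg_mem hz⟩, a, 0), rfl⟩, ?_⟩
        show aEl Φ (⟨-z, (zset C).neg_mem hz⟩, a, 0) • (show X from x') = (show X from x)
        rw [aEl_of_t_zero Φ rfl]
        show qel Φ.P (a • Φ.R.e) (-z) • (show X from x') = _
        have h2 : qel Φ.P (a • Φ.R.e) (-z) = qel Φ.P 0 (-z) * qel Φ.P (a • Φ.R.e) 0 := by
          rw [qel_zero_mul Φ.P hq ((zset C).neg_mem hz), zero_add]
        rw [h2, mul_smul, ← hz', ← mul_smul, qel_zero_mul Φ.P (qok_zero Φ.P hz) ((zset C).neg_mem hz),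
          add_neg_cancel, qel_zero, one_smul]
  · intro b
    induction b using Quotient.ind with
    | _ y =>
      obtain ⟨x, rfl⟩ := pyMk_surj Φ y
      exact ⟨⟦(show AY Φ X from x)⟧, rfl⟩

end CfsgLib.Perm.UnitFour
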