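import Cfsg.Agent.Lib.Perm.UnitFour.Classes
import Cfsg.Agent.Lib.Perm.UnitFour.Radical

/-!
Multiplicities of the characters of the radical at a point, and moved points.
-/

set_option autoImplicit false
set_option linter.unusedSectionVars false

namespace CfsgLib.Perm.UnitFour

open scoped Matrix
open Matrix Module CfsgLib.SU CfsgLib.PGroup.UnitIndex

variable {F : Type*} [Field F] [Fintype F] {q : ℕ} {C : UCtx F q}
variable (Φ : QFrame C) {X : Type*} [MulAction ↥(Cfsg.SU 4 F q) X]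

variable (X) in
/-- The multiplicity of a character of the orthogonal. -/
noncomputable def multW (v : Φ.P.perp) : ℕ := mult (Y := PY Φ X) (perpPairing Φ) v

variable {Φ} {g : ↥(Cfsg.SU 4 F q)} {l : F}

theorem conj_zero (hg : Φ.P.Diag g l) {z : F} (hz : z ∈ zset C) :
    l * C.bar l * z ∈ zset C ∧ g * qel Φ.P 0 z = qel Φ.P 0 (l * C.bar l * z) * g := by
  refine ⟨zset_mul_fixed hz (C.norm_fixed l), ?_⟩
  obtain ⟨-, h⟩ := qel_conj Φ.P hg (qok_zero Φ.P hz)
  rw [Matrix.mulVec_zero, smul_zero] at h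
  rw [← h, inv_mul_cancel_right]

theorem pyMk_levi (hg : Φ.P.Diag g l) {a b : X} :
    pyMk Φ (g • a) = pyMk Φ (g • b) ↔ pyMk Φ a = pyMk Φ b := by
  rw [pyMk_eq, pyMk_eq]
  constructor
  · rintro ⟨z, hz, h⟩
    obtain ⟨hz', he⟩ := conj_zero (diag_inv Φ.P hg) hz
    refine ⟨_, hz', smul_left_cancel g ?_⟩
    rw [← h, ← mul_smul, ← mul_smul, show qel Φ.P 0 (l⁻¹ * C.bar l⁻¹ * z) = g⁻¹ * qel Φ.P 0 z * g by
      rw [he, inv_mul_cancel_right]]
    congr 1; group
  · rintro ⟨z, hz, h⟩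
    obtain ⟨hz', he⟩ := conj_zero hg hz
    exact ⟨_, hz', by rw [← h, ← mul_smul, ← mul_smul, he]⟩

variable (X) in
/-- An element of the Levi factor, acting on the orbits of the transvections. -/
noncomputable def leviPerm (hg : Φ.P.Diag g l) : PY Φ X ≃ PY Φ X :=
  Quotient.congr (MulAction.toPerm (α := ↥(Cfsg.SU 4 F q)) (β := X) g) fun a b =>
    ⟨fun h => Quotient.exact ((pyMk_levi hg).2 (Quotient.sound h)),
      fun h => Quotient.exact ((pyMk_levi hg).1 (Quotient.sound h))⟩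

theorem leviPerm_mk (hg : Φ.P.Diag g l) (x : X) : leviPerm X hg (pyMk Φ x) = pyMk Φ (g • x) := rfl

/-- The multiplicities are invariant under the Levi factor. -/
theorem multW_levi (hg : Φ.P.Diag g l) (v : Φ.P.perp) :
    multW Φ X v = multW Φ X ⟨l • ((g⁻¹).1.1 *ᵥ v.1),
      Φ.P.perp.smul_mem _ (diag_perp Φ.P (diag_inv Φ.P hg) v.2)⟩ := by
  have hbl : C.bar l ≠ 0 := by simpa using hg.ne_zero
  refine mult_map (B := perpPairing Φ)
    (σ := fun u => ⟨C.bar l • (g.1.1 *ᵥ u.1), hg.mem u.2⟩)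
    (φ := fun v => ⟨l • ((g⁻¹).1.1 *ᵥ v.1), Φ.P.perp.smul_mem _ (diag_perp Φ.P (diag_inv Φ.P hg) v.2)⟩)
    ?_ ?_ (π := leviPerm X hg) ?_ v
  · refine Finite.surjective_of_injective fun a b h => Subtype.ext ?_
    have h1 := smul_right_injective (Fin 4 → F) hbl (congrArg Subtype.val h)
    rw [← su_inv_mulVec g a.1, ← su_inv_mulVec g b.1]
    exact congrArg _ h1
  · intro d u
    show chi F (C.form d.1 (C.bar l • (g.1.1 *ᵥ u.1)) + C.form (C.bar l • (g.1.1 *ᵥ u.1)) d.1) =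
      chi F (C.form (l • ((g⁻¹).1.1 *ᵥ d.1)) u.1 + C.form u.1 (l • ((g⁻¹).1.1 *ᵥ d.1)))
    have h1 : C.form d.1 (g.1.1 *ᵥ u.1) = C.form ((g⁻¹).1.1 *ᵥ d.1) u.1 := by
      conv_lhs => rw [← su_mulVec_inv g d.1, C.form_su]
    have h2 : C.form (g.1.1 *ᵥ u.1) d.1 = C.form u.1 ((g⁻¹).1.1 *ᵥ d.1) := by
      rw [← C.bar_form, h1, C.bar_form]
    rw [C.form_smul_left, C.form_smul_left, C.form_smul_right, C.form_smul_right, C.bar_bar, h1, h2]
  · intro u y
    obtain ⟨x, rfl⟩ := pyMk_surj Φ y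
    obtain ⟨h1, h2⟩ := qel_conj Φ.P hg (tau_ok Φ u)
    rw [vadd_pyMk Φ (tau_ok Φ u), leviPerm_mk, leviPerm_mk, vadd_pyMk Φ h1, ← h2, mul_smul, inv_smul_smul,
      mul_smul]

/-- An element moving `w` to any other isotropic vector of the orthogonal. -/
theorem exists_levi_line {z : Fin 4 → F} (hz : z ∈ Φ.P.perp) (hz0 : z ≠ 0) (hzz : C.form z z = 0) :
    ∃ (g : ↥(Cfsg.SU 4 F q)) (l : F), Φ.P.Diag g l ∧ g.1.1 *ᵥ Φ.R.e = z := by
  obtain ⟨A, hAe, hAf, hA⟩ := exists_gu_perp Φ.P (t := ![Φ.R.e]) (t' := ![z])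
    (linearIndependent_unique_iff.2 Φ.R.e_ne_zero) (linearIndependent_unique_iff.2 hz0)
    (fun i => by fin_cases i; exact Φ.he) (fun i => by fin_cases i; exact hz)
    (fun i j => by fin_cases i; fin_cases j; exact Φ.R.ee.trans hzz.symm)
  have hdd : A.1.1.det * C.bar A.1.1.det = 1 := C.mem_unitOne.1 (C.detHom A).2
  have hd0 := left_ne_zero_of_mul_eq_one hdd
  obtain ⟨l, hl, hlu⟩ := exists_ratio (C := C) (u := A.1.1.det⁻¹)
    (by rw [map_inv₀, ← mul_inv, hdd, inv_one])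
  have hbl : C.bar l ≠ 0 := by simpa using hl
  refine ⟨C.mkSU ((Φ.P.torus l hl).1.1 * A.1.1) ?_ (fun u v => by
    rw [← Matrix.mulVec_mulVec, ← Matrix.mulVec_mulVec, C.mem_gu_iff.1 (Φ.P.torus l hl).2,
      C.mem_gu_iff.1 A.2]), l, ⟨?_, ?_⟩, ?_⟩
  · show ((C.rmap Φ.P.e Φ.P.f (l - 1) * C.rmap Φ.P.f Φ.P.e ((C.bar l)⁻¹ - 1)) * A.1.1).det = 1
    rw [Matrix.det_mul, Matrix.det_mul, C.det_rmap, C.det_rmap, Φ.P.ef, Φ.P.fe,
      show (1 + (l - 1) * 1) * (1 + ((C.bar l)⁻¹ - 1) * 1) = l / C.bar l by rw [div_eq_mul_inv]; ring,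
      hlu, inv_mul_cancel₀ hd0]
  · rw [UCtx.mkSU_val, ← Matrix.mulVec_mulVec, hAe, UPair.torus_mulVec, Φ.P.ee, Φ.P.ef]
    simp [sub_smul]
  · rw [UCtx.mkSU_val, ← Matrix.mulVec_mulVec, hAf, UPair.torus_mulVec, Φ.P.fe, Φ.P.ff]
    simp [sub_smul]
  · rw [UCtx.mkSU_val, ← Matrix.mulVec_mulVec, show A.1.1 *ᵥ Φ.R.e = z from hA 0, UPair.torus_mulVec,
      hz.1, hz.2]
    simp

/-- The multiplicities on an isotropic line are those on the line of `w`. -/
theorem multW_line {z : Φ.P.perp} (hz0 : z ≠ 0) (hzz : C.form z.1 z.1 = 0) :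
    ∃ c : F, c ≠ 0 ∧ ∀ y : F, multW Φ X (y • z) = multW Φ X ((c * y) • ⟨Φ.R.e, Φ.he⟩) := by
  obtain ⟨g, l, hg, hgw⟩ := exists_levi_line z.2 (fun h => hz0 (Subtype.ext h)) hzz
  refine ⟨l, hg.ne_zero, fun y => ?_⟩
  rw [multW_levi hg (y • z)]
  congr 1
  refine Subtype.ext ?_
  show l • ((g⁻¹).1.1 *ᵥ (y • z.1)) = (l * y) • Φ.R.e
  rw [Matrix.mulVec_smul, ← hgw, su_inv_mulVec, smul_smul]

theorem multW_same_norm {v v' : Φ.P.perp} (h : C.form v.1 v.1 ≠ 0)
    (hn : C.form v'.1 v'.1 = C.form v.1 v.1) : multW Φ X v = multW Φ X v' := by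
  have hv0 : v.1 ≠ 0 := fun h0 => h (by rw [h0, C.form_zero_left])
  have hv'0 : v'.1 ≠ 0 := fun h0 => h (by rw [← hn, h0, C.form_zero_left])
  obtain ⟨g, hg, hgv⟩ := exists_su_perp Φ.P (t := ![v'.1]) (t' := ![v.1])
    (linearIndependent_unique_iff.2 hv'0) (linearIndependent_unique_iff.2 hv0)
    (fun i => by fin_cases i; exact v'.2) (fun i => by fin_cases i; exact v.2)
    (fun i j => by fin_cases i; fin_cases j; exact hn)
    (Or.inr ⟨by norm_num, 0, 0, by simpa [hn] using h⟩)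
  have hg' : g.1.1 *ᵥ v'.1 = v.1 := hgv 0
  rw [multW_levi hg v]
  congr 1
  refine Subtype.ext ?_
  show (1 : F) • ((g⁻¹).1.1 *ᵥ v.1) = v'.1
  rw [one_smul, ← hg', su_inv_mulVec]

/-- The anisotropic vectors form a single class. -/
theorem multW_aniso {v v' : Φ.P.perp} (h : C.form v.1 v.1 ≠ 0) (h' : C.form v'.1 v'.1 ≠ 0) :
    multW Φ X v = multW Φ X v' := by
  obtain ⟨g, l, hg, hl⟩ := exists_levi Φ.P (by norm_num) (c := C.form v'.1 v'.1 / C.form v.1 v.1)
    (by rw [map_div₀, C.form_self_fixed, C.form_self_fixed]) (div_ne_zero h' h)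
  rw [multW_levi hg v]
  have hn : C.form (l • ((g⁻¹).1.1 *ᵥ v.1)) (l • ((g⁻¹).1.1 *ᵥ v.1)) = C.form v'.1 v'.1 := by
    rw [C.form_smul_left, C.form_smul_right, C.form_su, ← mul_assoc, hl, div_mul_cancel₀ _ h]
  refine multW_same_norm ?_ hn.symm
  show C.form (l • ((g⁻¹).1.1 *ᵥ v.1)) (l • ((g⁻¹).1.1 *ᵥ v.1)) ≠ 0
  rw [hn]; exact h'

/-- In characteristic two the isotropic vectors form a single class. -/
theorem multW_iso [CharP F 2] {v : Φ.P.perp} (hv0 : v ≠ 0) (hvv : C.form v.1 v.1 = 0) :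
    multW Φ X v = multW Φ X ⟨Φ.R.e, Φ.he⟩ := by
  obtain ⟨c, hc, h⟩ := multW_line (X := X) hv0 hvv
  have h1 := h 1
  rw [one_smul, mul_one] at h1
  rw [h1]
  obtain ⟨l, hl⟩ := (Finite.injective_iff_surjective.1
    (fun a b (h : a * a = b * b) => by rwa [← sq, ← sq, CharTwo.sq_inj] at h) : Function.Surjective fun a : F => a * a) c⁻¹
  have hl' : l * l = c⁻¹ := hl
  have hl0 : l ≠ 0 := fun h0 => inv_ne_zero hc (by rw [← hl', h0, zero_mul])
  rw [multW_levi (diagG_diag Φ l hl0) (c • ⟨Φ.R.e, Φ.he⟩)]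
  congr 1
  refine Subtype.ext ?_
  show l • (((diagG Φ l hl0)⁻¹).1.1 *ᵥ (c • Φ.R.e)) = Φ.R.e
  have h2 : ((diagG Φ l hl0)⁻¹).1.1 *ᵥ Φ.R.e = l • Φ.R.e := by
    conv_rhs => rw [← su_inv_mulVec (diagG Φ l hl0) Φ.R.e, diagG_w, Matrix.mulVec_smul, smul_smul,
      mul_inv_cancel₀ hl0, one_smul]
  rw [Matrix.mulVec_smul, h2, smul_smul, smul_smul, mul_right_comm, hl', inv_mul_cancel₀ hc, one_smul]

variable (Φ)

open _root_.Classical in
variable (X) in
/-- The sum of the multiplicities on the line of `w`. -/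
noncomputable def lineSum : ℕ := ∑ y ∈ Finset.univ.erase (0 : F), multW Φ X (y • ⟨Φ.R.e, Φ.he⟩)

open _root_.Classical in
/-- The multiplicities off the line of `w`. -/
theorem sum_off_line (hF : Fintype.card F = q ^ 2) [Fintype Φ.P.perp] :
    ∃ j : ℕ, (∀ v : Φ.P.perp, C.form v.1 v.1 ≠ 0 → multW Φ X v = j) ∧
      ∑ v ∈ Finset.univ.filter (fun v : Φ.P.perp => C.form v.1 Φ.R.e ≠ 0), multW Φ X v =
        q * lineSum Φ X + (q ^ 2 - q) * (q ^ 2 - 1) * j := by
  obtain ⟨y₀, hy₀⟩ := C.exists_trace (c := (1 : F)) (map_one _)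
  let w : Φ.P.perp := ⟨Φ.R.e, Φ.he⟩
  let w' : Φ.P.perp := ⟨Φ.R.f, Φ.hf⟩
  have hnorm : ∀ u : F, C.form (u • w + w').1 (u • w + w').1 = u + C.bar u := fun u => by
    simp [w, w', C.form_add_left, C.form_add_right, C.form_smul_left, C.form_smul_right, Φ.R.ee,
      Φ.R.ff, Φ.R.ef, Φ.R.fe]
  have hne : ∀ u : F, u • w + w' ≠ 0 := fun u h => by
    have h1 := congrArg (fun v : Φ.P.perp => C.form v.1 Φ.R.e) h
    simp [w, w', C.form_add_left, C.form_smul_left, Φ.R.ee, Φ.R.fe, C.form_zero_left] at h1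
  set v₀ := y₀ • w + w' with hv₀
  have hv₀n : C.form v₀.1 v₀.1 ≠ 0 := by rw [hnorm, hy₀]; exact one_ne_zero
  refine ⟨multW Φ X v₀, fun v hv => multW_aniso hv hv₀n, ?_⟩
  have hsum : ∑ v ∈ Finset.univ.filter (fun v : Φ.P.perp => C.form v.1 Φ.R.e ≠ 0), multW Φ X v =
      ∑ p ∈ (Finset.univ.erase (0 : F)) ×ˢ (Finset.univ : Finset F), multW Φ X (p.1 • (p.2 • w + w')) := by
    refine (Finset.sum_bij' (fun p _ => p.1 • (p.2 • w + w'))
      (fun v _ => (C.form v.1 Φ.R.e, C.form v.1 Φ.R.f / C.form v.1 Φ.R.e)) ?_ ?_ ?_ ?_ fun p _ => rfl).symm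
    · intro p hp
      have hp' : p.1 ≠ 0 := by simpa using hp
      simp [w, w', C.form_add_left, C.form_smul_left, Φ.R.ee, Φ.R.fe, hp']
    · intro v hv
      simpa using hv
    · intro p hp
      have hp' : p.1 ≠ 0 := by simpa using hp
      simp [w, w', C.form_add_left, C.form_smul_left, Φ.R.ee, Φ.R.fe, Φ.R.ef, Φ.R.ff, hp']
    · intro v hv
      have hv' : C.form v.1 Φ.R.e ≠ 0 := by simpa using hv
      refine Subtype.ext ?_
      show C.form v.1 Φ.R.e • ((C.form v.1 Φ.R.f / C.form v.1 Φ.R.e) • Φ.R.e + Φ.R.f) = v.1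
      rw [smul_add, smul_smul, mul_div_cancel₀ _ hv']
      exact (Φ.perp_decomp v.2).symm
  rw [hsum, Finset.sum_product_right, ← Finset.sum_filter_add_sum_filter_not Finset.univ (fun u : F => u + C.bar u = 0)]
  have hz : (Finset.univ.filter fun u : F => u + C.bar u = 0).card = q := by
    rw [← Fintype.card_subtype, ← Nat.card_eq_fintype_card]
    exact card_zset (C := C) hF
  congr 1
  · rw [Finset.sum_congr rfl (fun u hu => ?_), Finset.sum_const, hz, smul_eq_mul]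
    obtain ⟨c, hc, hcy⟩ := multW_line (X := X) (z := u • w + w') (hne u)
      (by rw [hnorm]; exact (Finset.mem_filter.1 hu).2)
    rw [lineSum]
    refine Finset.sum_bij' (fun y _ => c * y) (fun y _ => c⁻¹ * y) ?_ ?_ ?_ ?_ fun y _ => hcy y
    · intro y hy; simpa [hc] using hy
    · intro y hy; simpa [hc] using hy
    · intro y _; rw [inv_mul_cancel_left₀ hc]
    · intro y _; rw [mul_inv_cancel_left₀ hc]
  · have hcard : (Finset.univ.filter fun u : F => ¬ (u + C.bar u = 0)).card = q ^ 2 - q := by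
      have := Finset.card_filter_add_card_filter_not (s := (Finset.univ : Finset F)) (fun u : F => u + C.bar u = 0)
      rw [hz, Finset.card_univ, hF] at this
      omega
    rw [Finset.sum_congr rfl (g := fun _ => (q ^ 2 - 1) * multW Φ X v₀) (fun u hu => ?_), Finset.sum_const, hcard,
      smul_eq_mul, mul_assoc]
    rw [Finset.sum_congr rfl (g := fun _ => multW Φ X v₀) (fun y hy => ?_), Finset.sum_const,
      Finset.card_erase_of_mem (Finset.mem_univ _), Finset.card_univ, hF, smul_eq_mul]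
    refine multW_aniso ?_ hv₀n
    show C.form (y • (u • w + w').1) (y • (u • w + w').1) ≠ 0
    rw [C.form_smul_left, C.form_smul_right, hnorm]
    have hy0 : y ≠ 0 := by simpa using hy
    exact mul_ne_zero hy0 (mul_ne_zero (by simpa using hy0) (Finset.mem_filter.1 hu).2)

/-- A transvection at `e` moves some point unless every point is fixed by the whole group. -/
theorem exists_moved (hF : Fintype.card F = q ^ 2)
    (hmove : ∀ x : X, ∃ g : ↥(Cfsg.SU 4 F q), g • x ≠ x) [Nonempty X] :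
    ∃ x : X, ∃ t ∈ zset C, qel Φ.P 0 t • x ≠ x := by
  by_contra hcon
  simp only [not_exists, not_and, not_not] at hcon
  obtain ⟨x⟩ := ‹Nonempty X›
  obtain ⟨g, hg⟩ := hmove x
  refine hg ?_
  suffices hs : ∀ g ∈ {A : ↥(Cfsg.SU 4 F q) | ∃ (v : Fin 4 → F) (c : F), Cfsg.hermForm 4 F q v v = 0 ∧
      ((A : Matrix.SpecialLinearGroup (Fin 4) F) : Matrix (Fin 4) (Fin 4) F) =
        Cfsg.unitaryTransvection 4 q v c}, g ∈ MulAction.stabilizer (↥(Cfsg.SU 4 F q)) x by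
    have h1 := (Subgroup.closure_le _).2 hs
    rw [CfsgLib.Perm.Trans.Unit.su_closure hF 4 (by omega) (by omega)] at h1
    exact h1 (Subgroup.mem_top g)
  rintro A ⟨z, c, hz, hA⟩
  rw [MulAction.mem_stabilizer_iff]
  have hAv : ∀ y, A.1.1 *ᵥ y = y + (c * C.form y z) • z := fun y => by
    rw [hA, CfsgLib.Perm.Trans.Unit.unitaryTransvection_mulVec, CfsgLib.Perm.Trans.Unit.hermForm_eq_form C]
  rw [CfsgLib.Perm.Trans.Unit.hermForm_eq_form C] at hz
  rcases eq_or_ne z 0 with rfl | hz0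
  · rw [show A = 1 from su_ext fun y => by rw [hAv, su_one_mulVec]; simp, one_smul]
  obtain ⟨y, hy⟩ := C.exists_form_eq_one hz0
  have hct : c ∈ zset C := by
    have h2 := C.form_su A y y
    have hvy : C.form z y = 1 := by rw [← C.bar_form, hy, map_one]
    simp only [hAv, hy, hvy, C.form_add_left, C.form_add_right, C.form_smul_left, C.form_smul_right, hz,
      mul_one] at h2
    rw [mem_zset]
    linear_combination h2
  obtain ⟨B, a, ha, hB⟩ := C.exists_move (by norm_num) Φ.P.e_ne_zero hz0 Φ.P.ee hz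
  set s := c / (a * C.bar a) with hs'
  have hs : s ∈ zset C := by
    rw [hs', div_eq_inv_mul]; exact zset_mul_fixed hct (by rw [map_inv₀, C.norm_fixed])
  have hNa : a * C.bar a ≠ 0 := mul_ne_zero ha (by simpa using ha)
  have e : A = B * qel Φ.P 0 s * B⁻¹ := by
    rw [qel_tv Φ.P hs]
    refine Eq.trans ?_ (C.tv_conj B Φ.P.e Φ.P.ee s hs).symm
    refine su_ext fun w => ?_
    rw [hAv]
    erw [C.tv_mulVec]
    rw [hB, C.form_smul_right, smul_smul]
    congr 2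
    rw [hs']
    have hba : C.bar a ≠ 0 := by simpa using ha
    field_simp
  rw [e, mul_smul, mul_smul, hcon (B⁻¹ • x) s hs, smul_inv_smul]

end CfsgLib.Perm.UnitFour
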