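import Cfsg.Agent.Lib.Perm.UnitFour.Classes
import Cfsg.Agent.Lib.Perm.UnitFour.Dichotomy

/-!
When the anisotropic classes have small multiplicity, the anisotropic characters of a proper dual lie
on one line.
-/

set_option autoImplicit false
set_option linter.unusedSectionVars false

namespace CfsgLib.Perm.UnitFour

open scoped Matrix
open Matrix Module CfsgLib.SU CfsgLib.PGroup.UnitIndex

variable {F : Type*} [Field F] [Fintype F] {q : ℕ} {C : UCtx F q} {Φ : QFrame C}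
variable {X : Type*} [MulAction ↥(Cfsg.SU 4 F q) X]

theorem Sym.φ_add (s : Sym Φ) (d d' : Tri C) : s.φ (d + d') = s.φ d + s.φ d' :=
  triChar_injective (DFunLike.ext _ _ fun H => by
    rw [triChar_apply, triChar_apply, pairF_add_left, ← s.pair, ← s.pair, ← s.pair, pairF_add_left])

theorem Sym.φ_injective (s : Sym Φ) : Function.Injective s.φ := fun d d' h =>
  triChar_injective (DFunLike.ext _ _ fun H => by
    obtain ⟨H, rfl⟩ := s.surj H
    rw [triChar_apply, triChar_apply, s.pair, s.pair, h])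

variable (Φ X) in
/-- The classes are small: at most two orbits in odd, at most one in even characteristic. -/
def Small : Prop :=
  ((2 : F) ≠ 0 ∧ ∀ c, C.bar c = c → c ≠ 0 → classMult Φ X c ≤ 2) ∨
    ((2 : F) = 0 ∧ ∀ c, C.bar c = c → c ≠ 0 → classMult Φ X c ≤ 1)

theorem up_up (r : F) (d : Tri C) :
    (Sym.up Φ r).φ ((Sym.up Φ r).φ d) = (Sym.up Φ (r + r)).φ d := by
  obtain ⟨h1, h2, h3⟩ := up_φ (Φ := Φ) r ((Sym.up Φ r).φ d)
  obtain ⟨k1, k2, k3⟩ := up_φ (Φ := Φ) r d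
  obtain ⟨j1, j2, j3⟩ := up_φ (Φ := Φ) (r + r) d
  refine Prod.ext (Subtype.ext ?_) (Prod.ext ?_ (Subtype.ext ?_))
  · rw [h1, k1, j1]
  · rw [h2, k1, k2, j2, map_add]; ring
  · rw [h3, k1, k2, k3, j3]; simp only [map_add, map_sub, map_mul, C.bar_bar, bar_zset d.1.2]; ring

theorem low_low (r : F) (d : Tri C) :
    (Sym.low Φ r).φ ((Sym.low Φ r).φ d) = (Sym.low Φ (r + r)).φ d := by
  obtain ⟨h1, h2, h3⟩ := low_φ (Φ := Φ) r ((Sym.low Φ r).φ d)
  obtain ⟨k1, k2, k3⟩ := low_φ (Φ := Φ) r d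
  obtain ⟨j1, j2, j3⟩ := low_φ (Φ := Φ) (r + r) d
  refine Prod.ext (Subtype.ext ?_) (Prod.ext ?_ (Subtype.ext ?_))
  · rw [h1, k1, k2, k3, j1]; simp only [map_add, map_sub, map_mul, C.bar_bar, bar_zset d.2.2.2]; ring
  · rw [h2, k2, k3, j2]; ring
  · rw [h3, k3, j3]

/-- The orthogonal of the middle anisotropic triple lies in the dual. -/
theorem orth_mid [Finite X] (hsm : Small Φ X) {x : AY Φ X} {β₀ : F} (hβ : β₀ ≠ 0)
    (hv : ((0, β₀, 0) : Tri C) ∈ dual (triPairing C) x) {y : Tri C} (hy : y ∈ dual (triPairing C) x)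
    (hne : disc y ≠ 0) (hline : ∀ r (hr : C.bar r = r), y ≠ scl r hr (0, β₀, 0))
    {d : Tri C} (hd : d.2.1 * C.bar β₀ + β₀ * C.bar d.2.1 = 0) : d ∈ dual (triPairing C) x := by
  classical
  set S₀ := dual (triPairing C) x with hS₀
  set n₀ := β₀ * C.bar β₀ with hn₀
  have hb₀ : C.bar β₀ ≠ 0 := by simpa using hβ
  have hn0 : n₀ ≠ 0 := mul_ne_zero hβ hb₀
  have hn : C.bar n₀ = n₀ := C.norm_fixed β₀
  let ψ : Tri C →+ F × F × F :=
    { toFun := fun d => ((d.1 : F) / n₀, d.2.1 / β₀, (d.2.2 : F))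
      map_zero' := by simp
      map_add' := fun a b => by simp [add_div] }
  have hψ : ∀ d, ψ d = ((d.1 : F) / n₀, d.2.1 / β₀, (d.2.2 : F)) := fun d => rfl
  set S := S₀.map ψ with hS
  have hm : ∀ c : F, C.bar c = c → c ≠ 0 → classMult Φ X c ≤ 2 := fun c hc hc0 =>
    hsm.elim (fun h => h.2 c hc hc0) fun h => (h.2 c hc hc0).trans one_le_two
  have hdm : disc ((0, β₀, 0) : Tri C) = n₀ := disc_mid β₀
  have hv2 : mult (Y := AY Φ X) (triPairing C) ((0, β₀, 0) : Tri C) ≤ 2 := by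
    show multA Φ X _ ≤ 2
    rw [multA_class (by rw [hdm]; exact hn0), hdm]
    exact hm _ hn hn0
  -- stability under a symmetry fixing the middle triple
  have hinv2 : ∀ s : Sym Φ, s.φ (0, β₀, 0) = (0, β₀, 0) → ∀ z ∈ S₀, s.φ (s.φ z) ∈ S₀ := fun s hs z hz =>
    dual_invariant_sq s.surj s.hp (π := s.perm) s.perm_vadd hv hs hv2 hz
  have hinv1 : (2 : F) = 0 → ∀ s : Sym Φ, s.φ (0, β₀, 0) = (0, β₀, 0) → ∀ z ∈ S₀, s.φ z ∈ S₀ :=
    fun h2 s hs z hz => dual_invariant s.surj s.hp (π := s.perm) s.perm_vadd hv hs (by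
      show multA Φ X _ ≤ 1
      rw [multA_class (by rw [hdm]; exact hn0), hdm]
      exact (hsm.resolve_left fun h => h.1 h2).2 _ hn hn0) hz
  have hupfix : ∀ ρ, C.bar ρ = ρ → (Sym.up Φ (ρ / β₀)).φ ((0, β₀, 0) : Tri C) = (0, β₀, 0) := fun ρ hρ => by
    obtain ⟨h1, h2, h3⟩ := up_φ (Φ := Φ) (ρ / β₀) ((0, β₀, 0) : Tri C)
    refine Prod.ext (Subtype.ext ?_) (Prod.ext ?_ (Subtype.ext ?_))
    · rw [h1]
    · rw [h2]; simp
    · rw [h3]
      simp only [ZeroMemClass.coe_zero, zero_mul, add_zero, zero_add, map_div₀, hρ]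
      rw [mul_div_cancel₀ _ hb₀, mul_div_cancel₀ _ hβ, sub_self]
  have hlowfix : ∀ ρ, C.bar ρ = ρ → (Sym.low Φ (ρ * β₀)).φ ((0, β₀, 0) : Tri C) = (0, β₀, 0) := fun ρ hρ => by
    obtain ⟨h1, h2, h3⟩ := low_φ (Φ := Φ) (ρ * β₀) ((0, β₀, 0) : Tri C)
    refine Prod.ext (Subtype.ext ?_) (Prod.ext ?_ (Subtype.ext ?_))
    · rw [h1]
      simp only [ZeroMemClass.coe_zero, zero_mul, add_zero, zero_add, map_mul, hρ]
      ring
    · rw [h2]; simp
    · rw [h3]
  have hupS : ∀ ρ, C.bar ρ = ρ → ∀ z ∈ S₀, (Sym.up Φ (ρ / β₀)).φ z ∈ S₀ := by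
    intro ρ hρ z hz
    by_cases h2 : (2 : F) = 0
    · exact hinv1 h2 _ (hupfix ρ hρ) z hz
    · have h := hinv2 _ (hupfix (ρ / 2) (by rw [map_div₀, hρ, map_ofNat])) z hz
      rwa [up_up, show ρ / 2 / β₀ + ρ / 2 / β₀ = ρ / β₀ by field_simp; ring] at h
  have hlowS : ∀ ρ, C.bar ρ = ρ → ∀ z ∈ S₀, (Sym.low Φ (ρ * β₀)).φ z ∈ S₀ := by
    intro ρ hρ z hz
    by_cases h2 : (2 : F) = 0
    · exact hinv1 h2 _ (hlowfix ρ hρ) z hz
    · have h := hinv2 _ (hlowfix (ρ / 2) (by rw [map_div₀, hρ, map_ofNat])) z hz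
      rwa [low_low, show ρ / 2 * β₀ + ρ / 2 * β₀ = ρ * β₀ by field_simp; ring] at h
  have hfz : ∀ t : F, t ∈ zset C → t / n₀ ∈ zset C := fun t ht => by
    rw [div_eq_inv_mul]; exact zset_mul_fixed ht (by rw [map_inv₀, hn])
  have hI : InvSet C S := by
    refine ⟨?_, ?_, ⟨(0, β₀, 0), hv, by rw [hψ]; simp [hβ]⟩, ?_, ?_⟩
    · rintro _ ⟨z, -, rfl⟩; exact hfz _ z.1.2
    · rintro _ ⟨z, -, rfl⟩; exact z.2.2.2
    · rintro ρ hρ A g b ⟨z, hz, he⟩
      rw [hψ] at he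
      simp only [Prod.mk.injEq] at he
      obtain ⟨rfl, rfl, rfl⟩ := he
      refine ⟨_, hupS ρ hρ z hz, ?_⟩
      obtain ⟨h1, h2, h3⟩ := up_φ (Φ := Φ) (ρ / β₀) z
      rw [hψ, h1, h2, h3]
      simp only [map_div₀, hρ, Prod.mk.injEq, true_and, hn₀]
      constructor <;> field_simp
      ring
    · rintro ρ hρ A g b ⟨z, hz, he⟩
      rw [hψ] at he
      simp only [Prod.mk.injEq] at he
      obtain ⟨rfl, rfl, rfl⟩ := he
      refine ⟨_, hlowS ρ hρ z hz, ?_⟩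
      obtain ⟨h1, h2, h3⟩ := low_φ (Φ := Φ) (ρ * β₀) z
      rw [hψ, h1, h2, h3]
      simp only [map_mul, map_div₀, hρ, Prod.mk.injEq, and_true, hn₀]
      constructor <;> field_simp
      ring
  have hyS : ψ y ∈ S := ⟨y, hy, rfl⟩
  have hline' : (y.1 : F) / n₀ = 0 → (y.2.2 : F) = 0 → C.bar (y.2.1 / β₀) ≠ y.2.1 / β₀ := by
    intro h1 h2 h3
    refine hline _ h3 (Prod.ext (Subtype.ext ?_) (Prod.ext ?_ (Subtype.ext ?_)))
    · simpa [scl, hn0] using h1
    · simp [scl, div_mul_cancel₀ _ hβ]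
    · simpa [scl] using h2
  have hall : AllOrth C S := by
    by_cases h2 : (2 : F) = 0
    · haveI : CharP F 2 := CharTwo.of_one_ne_zero_of_two_eq_zero one_ne_zero h2
      refine allOrth_even hI ?_ ?_ hyS ?_ hline'
      · rintro r hr hr0 A g b ⟨z, hz, he⟩
        rw [hψ] at he
        simp only [Prod.mk.injEq] at he
        obtain ⟨rfl, rfl, rfl⟩ := he
        have hfix : (Sym.diag Φ r hr0).φ ((0, β₀, 0) : Tri C) = (0, β₀, 0) := by
          obtain ⟨h1, h2, h3⟩ := diag_φ (Φ := Φ) r hr0 ((0, β₀, 0) : Tri C)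
          refine Prod.ext (Subtype.ext ?_) (Prod.ext ?_ (Subtype.ext ?_))
          · rw [h1]; simp
          · rw [h2, hr, div_self hr0, mul_one]
          · rw [h3]; simp
        refine ⟨_, hinv1 h2 _ hfix z hz, ?_⟩
        obtain ⟨h1, h2, h3⟩ := diag_φ (Φ := Φ) r hr0 z
        rw [hψ, h1, h2, h3, hr, div_self hr0, mul_one]
        simp only [Prod.mk.injEq, true_and]
        constructor <;> ring
      · intro c hc
        obtain ⟨r, hr⟩ := (Finite.injective_iff_surjective.1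
          (fun a b (h : a * a = b * b) => by rwa [← sq, ← sq, CharTwo.sq_inj] at h) :
            Function.Surjective fun a : F => a * a) c
        have hr' : r ^ 2 = c := (sq r).trans hr
        exact ⟨r, CharTwo.sq_inj.1 (by rw [← map_pow, hr', hc]), hr'⟩
      · intro h0
        refine hne ?_
        have e1 : disc y = n₀ * ((y.1 : F) / n₀ * (y.2.2 : F) + y.2.1 / β₀ * C.bar (y.2.1 / β₀)) := by
          rw [disc, map_div₀, mul_add, ← mul_assoc, mul_div_cancel₀ _ hn0, div_mul_div_comm, ← hn₀,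
            mul_div_cancel₀ _ hn0]
        rw [e1, h0, mul_zero]
    · exact allOrth_odd hI h2 hyS hline'
  have hg : d.2.1 / β₀ ∈ zset C := by
    rw [mem_zset, map_div₀, div_add_div _ _ hβ hb₀, hd, zero_div]
  obtain ⟨z, hz, he⟩ := hall _ _ _ (hfz _ d.1.2) hg d.2.2.2
  rw [hψ] at he
  simp only [Prod.mk.injEq, div_left_inj' hn0, div_left_inj' hβ] at he
  have hzd : z = d := Prod.ext (Subtype.ext he.1) (Prod.ext he.2.1 (Subtype.ext he.2.2))
  rwa [hzd] at hz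

/-- The anisotropic members of a proper dual lie on one line. -/
theorem dual_line [Finite X] (hsm : Small Φ X) {x : AY Φ X} (hx : dual (triPairing C) x ≠ ⊤) {v y : Tri C}
    (hv : v ∈ dual (triPairing C) x) (hv0 : disc v ≠ 0) (hy : y ∈ dual (triPairing C) x) (hy0 : disc y ≠ 0) :
    ∃ r, ∃ hr : C.bar r = r, y = scl r hr v := by
  classical
  by_contra hcon
  simp only [not_exists] at hcon
  obtain ⟨β₀, hβ₀⟩ := C.exists_norm (disc_fixed v)
  have hβ : β₀ ≠ 0 := fun h => hv0 (by rw [← hβ₀, h, zero_mul])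
  obtain ⟨s, hs, hsv⟩ := exists_sym_mid Φ v hv0 hβ₀
  set x₁ : AY Φ X := s.perm.symm x with hx₁
  have hmem : ∀ d, d ∈ dual (triPairing C) x ↔ s.φ d ∈ dual (triPairing C) x₁ := fun d => by
    conv_lhs => rw [← s.perm.apply_symm_apply x]
    exact dual_map s.surj s.hp (π := s.perm) s.perm_vadd x₁ d
  have hv1 : ((0, β₀, 0) : Tri C) ∈ dual (triPairing C) x₁ := by rw [← hsv]; exact (hmem v).1 hv
  have hline : ∀ r (hr : C.bar r = r), s.φ y ≠ scl r hr (0, β₀, 0) := fun r hr h =>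
    hcon r hr (s.φ_injective (by rw [h, ← hsv, hs.scl_eq]))
  have h1 := fun d => orth_mid hsm hβ hv1 ((hmem y).1 hy) (by rw [hs.disc_eq]; exact hy0) hline (d := d)
  -- a second anisotropic triple
  obtain ⟨δ, hδ0, hδ⟩ := C.exists_trace_zero
  set n₀ := β₀ * C.bar β₀ with hn₀
  have hn0 : n₀ ≠ 0 := mul_ne_zero hβ (by simpa using hβ)
  have hδb : n₀ / δ ∈ zset C := by
    rw [mem_zset, map_div₀, C.norm_fixed, bar_zset (C := C) hδ, div_neg, add_neg_cancel]
  set w : Tri C := (⟨δ, hδ⟩, 0, ⟨n₀ / δ, hδb⟩) with hw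
  have hwd : disc w = n₀ := by
    simp only [hw, disc, zero_mul, add_zero]
    rw [mul_div_cancel₀ _ hδ0]
  obtain ⟨t, ht, htw⟩ := exists_sym_mid Φ w (by rw [hwd]; exact hn0) (β₀ := β₀) hwd.symm
  set x₂ : AY Φ X := t.perm.symm x₁ with hx₂
  have hmem2 : ∀ d, d ∈ dual (triPairing C) x₁ ↔ t.φ d ∈ dual (triPairing C) x₂ := fun d => by
    conv_lhs => rw [← t.perm.apply_symm_apply x₁]
    exact dual_map t.surj t.hp (π := t.perm) t.perm_vadd x₂ d
  have hw1 : w ∈ dual (triPairing C) x₁ := h1 w (by simp [hw])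
  have hline2 : ∀ r (hr : C.bar r = r), t.φ (0, β₀, 0) ≠ scl r hr (0, β₀, 0) := fun r hr h => by
    have h' : ((0, β₀, 0) : Tri C) = scl r hr w := t.φ_injective (by rw [h, ← htw, ht.scl_eq])
    have h'' := congrArg (fun d : Tri C => d.2.1) h'
    simp [scl, hw, hβ] at h''
  have h2 := fun d => orth_mid hsm hβ (by rw [← htw]; exact (hmem2 w).1 hw1) ((hmem2 _).1 hv1)
    (by rw [ht.disc_eq, disc_mid]; exact hn0) hline2 (d := d)
  have hmid : ∀ β : F, ((0, β, 0) : Tri C) ∈ dual (triPairing C) x₁ := fun β => by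
    refine (hmem2 _).2 (h2 _ ?_)
    have e1 : disc (t.φ ((0, β, 0) + w)) = disc (t.φ (0, β, 0)) + disc (t.φ w) := by
      rw [ht.disc_eq, ht.disc_eq, ht.disc_eq]
      simp [hw, disc]
      ring
    rw [t.φ_add, htw] at e1
    simp [disc] at e1
    linear_combination e1
  refine hx ((AddSubgroup.eq_top_iff' _).2 fun d => (hmem d).2 ?_)
  generalize s.φ d = e
  have he : e = ((e.1, 0, e.2.2) : Tri C) + (0, e.2.1, 0) := by simp
  rw [he]
  exact AddSubgroup.add_mem _ (h1 _ (by simp)) (hmid _)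

end CfsgLib.Perm.UnitFour
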