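import Cfsg.Agent.Lib.Perm.UnitFour.Spread

/-!
An action of a four-dimensional special unitary group on fewer points than there are totally
isotropic lines fixes some point.
-/

set_option autoImplicit false
set_option linter.unusedSectionVars false

namespace CfsgLib.Perm.UnitFour

open scoped Matrix
open Matrix Module CfsgLib.SU CfsgLib.PGroup.UnitIndex

variable {F : Type*} [Field F] [Fintype F] {q : ℕ} {C : UCtx F q}
variable (Φ : QFrame C) {X : Type*} [MulAction ↥(Cfsg.SU 4 F q) X] [Finite X] [Nonempty X]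

/-- Characters of the orthogonal in a dual are not all involutions in odd characteristic. -/
theorem three_le_dual (h2 : (2 : F) ≠ 0) {y : PY Φ X} {v : Φ.P.perp} (hv : v ∈ dual (perpPairing Φ) y)
    (hv0 : v ≠ 0) : 3 ≤ Nat.card (dual (perpPairing Φ) y) := by
  classical
  let _ : Fintype Φ.P.perp := Fintype.ofFinite _
  rw [Nat.card_eq_fintype_card, Fintype.card_subtype]
  have hne : v ≠ -v := fun h => hv0 (by
    have h' : (2 : F) • v = 0 := by rw [two_smul]; exact add_eq_zero_iff_eq_neg.2 h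
    exact (smul_eq_zero.1 h').resolve_left h2)
  refine le_trans ?_ (Finset.card_le_card (s := {0, v, -v}) fun u hu => ?_)
  · rw [Finset.card_insert_of_notMem (by simp [hv0, Ne.symm hv0]), Finset.card_pair hne]
  · simp only [Finset.mem_insert, Finset.mem_singleton] at hu
    refine Finset.mem_filter.2 ⟨Finset.mem_univ _, ?_⟩
    rcases hu with rfl | rfl | rfl
    exacts [zero_mem _, hv, neg_mem hv]

open _root_.Classical in
/-- A bound on the orbits of the radical at a point in characteristic two. -/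
theorem orbit_bound_even [CharP F 2] (hF : Fintype.card F = q ^ 2) (hq : 2 ≤ q)
    (hsmall : Nat.card X < (q + 1) * (q ^ 3 + 1)) (hmove : ∀ x : X, ∃ g : ↥(Cfsg.SU 4 F q), g • x ≠ x)
    [Fintype Φ.P.perp] (haniso : ∀ v : Φ.P.perp, C.form v.1 v.1 ≠ 0 → multW Φ X v = 0)
    (hls : lineSum Φ X = q ^ 2 - 1) :
    ∀ y : PY Φ X, q ^ 2 ≤ Nat.card (dual (perpPairing Φ) y) := by
  set w : Φ.P.perp := ⟨Φ.R.e, Φ.he⟩ with hw
  have hq1 : 0 < q ^ 2 - 1 := by
    have : 2 ^ 2 ≤ q ^ 2 := Nat.pow_le_pow_left hq 2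
    omega
  -- the line has multiplicity one
  have hw1 : multW Φ X w = 1 := by
    have h : ∀ y ∈ Finset.univ.erase (0 : F), multW Φ X (y • w) = multW Φ X w := fun y hy => by
      have hy0 : y ≠ 0 := by simpa using hy
      exact multW_iso (smul_ne_zero hy0 fun h => Φ.R.e_ne_zero (congrArg Subtype.val h :))
        (by simp [hw, C.form_smul_left, C.form_smul_right, Φ.R.ee])
    rw [lineSum, Finset.sum_congr rfl h, Finset.sum_const, Finset.card_erase_of_mem (Finset.mem_univ _),
      Finset.card_univ, hF, smul_eq_mul] at hls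
    exact (Nat.mul_eq_left hq1.ne').1 hls
  -- every orbit is moved into the orbit of that line
  have key : ∀ y : PY Φ X, ∃ y' : PY Φ X, w ∈ dual (perpPairing Φ) y' ∧
      Nat.card (dual (perpPairing Φ) y') = Nat.card (dual (perpPairing Φ) y) := by
    intro y
    obtain ⟨v, hv, hv0⟩ := exists_dual_ne Φ X hF hq hsmall hmove y
    have hvv : C.form v.1 v.1 = 0 := by
      by_contra hne
      have h1 : 1 ≤ multW Φ X v :=
        Nat.one_le_iff_ne_zero.2 (Nat.card_ne_zero.2 ⟨⟨⟨⟦y⟧, by rw [dual_out]; exact hv⟩⟩, inferInstance⟩)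
      rw [haniso v hne] at h1
      omega
    obtain ⟨g, l, hg, hgw⟩ := exists_levi_line (Φ := Φ) v.2 (fun h => hv0 (Subtype.ext h)) hvv
    obtain ⟨l', hl'⟩ := (Finite.injective_iff_surjective.1
      (fun a b (h : a * a = b * b) => by rwa [← sq, ← sq, CharTwo.sq_inj] at h) : Function.Surjective fun a : F => a * a) l⁻¹
    have hl'' : l' * l' = l⁻¹ := hl'
    have hl0 : l' ≠ 0 := fun h0 => inv_ne_zero hg.ne_zero (by rw [← hl'', h0, zero_mul])
    set k := g * diagG Φ l' hl0 with hk
    have hkd : Φ.P.Diag k (l * l') := diag_mul Φ.P hg (diagG_diag Φ l' hl0)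
    have hbk : C.bar (l * l') ≠ 0 := by simpa using hkd.ne_zero
    clear_value k
    let σ : Φ.P.perp → Φ.P.perp := fun u => ⟨C.bar (l * l') • (k.1.1 *ᵥ u.1), hkd.mem u.2⟩
    let φ : Φ.P.perp → Φ.P.perp := fun d =>
      ⟨(l * l') • ((k⁻¹).1.1 *ᵥ d.1), Φ.P.perp.smul_mem _ (diag_perp Φ.P (diag_inv Φ.P hkd) d.2)⟩
    have hσ : Function.Surjective σ := Finite.surjective_of_injective fun a b h => Subtype.ext (by
      have h1 := smul_right_injective (Fin 4 → F) hbk (congrArg Subtype.val h)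
      rw [← su_inv_mulVec k a.1, ← su_inv_mulVec k b.1]
      exact congrArg _ h1)
    have hp : ∀ d u, (perpPairing Φ).φ d (σ u) = (perpPairing Φ).φ (φ d) u := fun d u => by
      show chi F (C.form d.1 (C.bar (l * l') • (k.1.1 *ᵥ u.1)) + C.form (C.bar (l * l') • (k.1.1 *ᵥ u.1)) d.1) =
        chi F (C.form ((l * l') • ((k⁻¹).1.1 *ᵥ d.1)) u.1 + C.form u.1 ((l * l') • ((k⁻¹).1.1 *ᵥ d.1)))
      have h1 : C.form d.1 (k.1.1 *ᵥ u.1) = C.form ((k⁻¹).1.1 *ᵥ d.1) u.1 := by
        conv_lhs => rw [← su_mulVec_inv k d.1, C.form_su]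
      have h2 : C.form (k.1.1 *ᵥ u.1) d.1 = C.form u.1 ((k⁻¹).1.1 *ᵥ d.1) := by
        rw [← C.bar_form, h1, C.bar_form]
      rw [C.form_smul_left, C.form_smul_left, C.form_smul_right, C.form_smul_right, C.bar_bar, h1, h2]
    have hπ : ∀ u z, leviPerm X hkd (u +ᵥ z) = σ u +ᵥ leviPerm X hkd z := fun u z => by
      obtain ⟨x, rfl⟩ := pyMk_surj Φ z
      obtain ⟨h1, h2⟩ := qel_conj Φ.P hkd (tau_ok Φ u)
      rw [vadd_pyMk Φ (tau_ok Φ u), leviPerm_mk, leviPerm_mk, vadd_pyMk Φ h1, ← h2, mul_smul, inv_smul_smul,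
        mul_smul]
    set y' := (leviPerm X hkd).symm y with hy'
    have hmem : ∀ d, d ∈ dual (perpPairing Φ) y ↔ φ d ∈ dual (perpPairing Φ) y' := fun d => by
      conv_lhs => rw [← (leviPerm X hkd).apply_symm_apply y]
      exact dual_map hσ hp hπ y' d
    have hinj : Function.Injective φ := fun a b h => by
      have h1 := smul_right_injective (Fin 4 → F) hkd.ne_zero (congrArg Subtype.val h)
      exact Subtype.ext (by rw [← su_mulVec_inv k a.1, ← su_mulVec_inv k b.1]; exact congrArg _ h1)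
    refine ⟨y', ?_, (Nat.card_congr (Equiv.subtypeEquiv (Equiv.ofBijective φ
      (Finite.injective_iff_bijective.1 hinj)) hmem)).symm⟩
    have hφv : φ v = w := by
      refine Subtype.ext ?_
      show (l * l') • ((k⁻¹).1.1 *ᵥ v.1) = Φ.R.e
      have h2 : ((diagG Φ l' hl0)⁻¹).1.1 *ᵥ Φ.R.e = l' • Φ.R.e := by
        conv_rhs => rw [← su_inv_mulVec (diagG Φ l' hl0) Φ.R.e, diagG_w, Matrix.mulVec_smul, smul_smul,
          mul_inv_cancel₀ hl0, one_smul]
      rw [hk, _root_.mul_inv_rev, suMat_mulVec_mul, ← hgw, su_inv_mulVec, h2, smul_smul, mul_assoc, hl'',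
        mul_inv_cancel₀ hg.ne_zero, one_smul]
    rw [← hφv]
    exact (hmem v).1 hv
  -- some orbit is large
  obtain ⟨x, t, ht, hx⟩ := exists_moved Φ hF hmove
  obtain ⟨μ, hμ, hμ0⟩ := exists_ann Φ.P ht hx
  have h1 := wstab_sq_le Φ.P hμ hμ0
  have hbig : q ^ 2 ≤ Nat.card (dual (perpPairing Φ) (pyMk Φ x)) := by
    set st := AddAction.stabilizer Φ.P.perp (pyMk Φ x) with hst
    have hle : Nat.card st ≤ Nat.card (wstab Φ.P x) := by
      refine Nat.card_le_card_of_injective (fun u => (⟨u.1.1, ?_⟩ : wstab Φ.P x)) fun a b h =>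
        Subtype.ext (Subtype.ext (congrArg Subtype.val h :))
      obtain ⟨t', ht'⟩ := qok_exists Φ.P u.1.2
      have hu : (⟨u.1.1, ht'.1⟩ : Φ.P.perp) +ᵥ pyMk Φ x = pyMk Φ x := u.2
      rw [vadd_pyMk Φ ht', pyMk_eq] at hu
      obtain ⟨z, hz, hz'⟩ := hu
      refine ⟨t' + -z, ⟨u.1.2, ?_⟩, ?_⟩
      · rw [map_add]; linear_combination ht'.2 + mem_zset.1 ((zset C).neg_mem hz)
      · rw [← qel_zero_mul Φ.P ht' ((zset C).neg_mem hz), mul_smul, ← hz', ← mul_smul,
          qel_zero_mul Φ.P (qok_zero Φ.P hz) ((zset C).neg_mem hz), add_neg_cancel, qel_zero, one_smul]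
    rw [dual, (perpPairing Φ).card_ann]
    have h2 : Nat.card st * st.index = q ^ 2 * q ^ 2 := by
      rw [st.card_mul_index, natCard_perp, hF]; ring
    have h3 : Nat.card st ≤ q ^ 2 := by
      rw [natCard_perp, hF, show (q ^ 2) ^ (4 - 2) = q ^ 2 * q ^ 2 by ring] at h1
      exact Nat.mul_self_le_mul_self_iff.1 ((Nat.mul_le_mul hle hle).trans h1)
    have h4 : q ^ 2 * q ^ 2 ≤ q ^ 2 * st.index := h2 ▸ Nat.mul_le_mul_right _ h3
    exact Nat.le_of_mul_le_mul_left h4 (by positivity)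
  intro y
  obtain ⟨y', hy', hc⟩ := key y
  obtain ⟨y₀, hy₀, hc₀⟩ := key (pyMk Φ x)
  haveI : Subsingleton {ω : Orb Φ.P.perp (PY Φ X) // w ∈ dual (perpPairing Φ) (Quotient.out ω)} :=
    Finite.card_le_one_iff_subsingleton.1 (le_of_eq hw1)
  have heq : (⟦y'⟧ : Orb Φ.P.perp (PY Φ X)) = ⟦y₀⟧ := congrArg Subtype.val (Subsingleton.elim
    (⟨⟦y'⟧, by rw [dual_out]; exact hy'⟩ : {ω : Orb Φ.P.perp (PY Φ X) // w ∈ dual (perpPairing Φ) (Quotient.out ω)})
    ⟨⟦y₀⟧, by rw [dual_out]; exact hy₀⟩)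
  rw [← hc, ← dual_out, heq, dual_out, hc₀]
  exact hbig

/-- An action on few points without fixed points does not exist. -/
theorem no_action (hF : Fintype.card F = q ^ 2) (hq : 2 ≤ q)
    (hsmall : Nat.card X < (q + 1) * (q ^ 3 + 1)) (hmove : ∀ x : X, ∃ g : ↥(Cfsg.SU 4 F q), g • x ≠ x)
    (Φ : QFrame C) : False := by
  classical
  let _ : Fintype (Tri C) := Fintype.ofFinite _
  let _ : Fintype (Orb (Tri C) (AY Φ X)) := Fintype.ofFinite _
  let _ : Fintype Φ.P.perp := Fintype.ofFinite _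
  have hnr : ∀ x : AY Φ X, dual (triPairing C) x ≠ ⊤ := fun x => no_regular Φ hF hq hsmall hmove x
  have hk := card_eq_sum_dual Φ X
  have hn := sum_nA Φ X hF
  set fA := Nat.card (Orb (Tri C) (AY Φ X)) with hfA
  have hfA' : fA = (Finset.univ : Finset (Orb (Tri C) (AY Φ X))).card := by
    rw [hfA, Nat.card_eq_fintype_card, Finset.card_univ]
  have hlow : q * (q ^ 2 + 1) * classSum Φ X + fA ≤ Nat.card X := by
    rw [hk, ← hn, hfA', Finset.card_eq_sum_ones, ← Finset.sum_add_distrib]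
    exact Finset.sum_le_sum fun ω _ => nA_lt Φ X (Quotient.out ω)
  have hfA1 : 1 ≤ fA :=
    Nat.one_le_iff_ne_zero.2 (Nat.card_ne_zero.2 ⟨⟨⟦(show AY Φ X from Classical.arbitrary X)⟧⟩, inferInstance⟩)
  obtain ⟨a, b, hab, hcl, ⟨ca, hca, hca0, hfa⟩, ⟨cb, hcb, hcb0, hfb⟩, heven⟩ :=
    exists_classes (Φ := Φ) (X := X) hF hq
  obtain ⟨p, hp⟩ := CharP.exists F
  have hodd : (2 : F) ≠ 0 → 3 ≤ q := by
    intro h2
    by_contra h
    obtain rfl : q = 2 := by omega
    have h4 : ((Fintype.card F : ℕ) : F) = 0 := FiniteField.cast_card_eq_zero F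
    rw [hF] at h4
    push_cast at h4
    exact h2 ((pow_eq_zero_iff two_ne_zero).1 (by linear_combination h4 : (2 : F) ^ 2 = 0))
  set M := classSum Φ X with hM
  have hN : (q + 1) * (q ^ 3 + 1) = q ^ 4 + q * (q ^ 2 + 1) + 1 := by ring
  have hqp : 0 < q * (q ^ 2 + 1) := by positivity
  by_cases hsm : Small Φ X
  · have hfew : q * (q ^ 2 + 1) * M ≤ (q - 1) * fA := by
      rw [← hn, hfA', mul_comm, ← smul_eq_mul, ← Finset.sum_const]
      exact Finset.sum_le_sum fun ω _ => nA_le_line Φ hF hsm (hnr _)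
    by_cases h3 : 3 ≤ a + b
    · have h2 : (2 : F) ≠ 0 := by
        intro h2
        have h := (hsm.resolve_left fun h => h.1 h2).2
        have := h ca hca hca0
        have := h cb hcb hcb0
        omega
      have hq3 := hodd h2
      obtain ⟨r, rfl⟩ : ∃ r, q = r + 3 := ⟨q - 3, by omega⟩
      rw [show r + 3 - 1 = r + 2 by omega] at hab hfew
      have e1 : 3 * (r + 2) ≤ 2 * M := by
        rw [hab, mul_comm (r + 2)]; exact Nat.mul_le_mul_right _ h3
      have e2 := Nat.mul_le_mul_left ((r + 3) * ((r + 3) ^ 2 + 1)) e1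
      have e3 : 3 * ((r + 3) * ((r + 3) ^ 2 + 1)) * (r + 2) ≤ 2 * fA * (r + 2) := by nlinarith [e2, hfew]
      have e4 := Nat.le_of_mul_le_mul_right e3 (by omega)
      nlinarith [e2, e4, hlow, hsmall, sq_nonneg (r : ℕ)]
    obtain ⟨j, hj, hid, hle, hsum⟩ := orbit_identities Φ X hF
    rw [← hM] at hid
    rw [← hfA] at hle
    set fQ := Nat.card (Orb Φ.P.perp (PY Φ X))
    set L := lineSum Φ X with hL
    have hQ1 : 1 ≤ fQ :=
      Nat.one_le_iff_ne_zero.2 (Nat.card_ne_zero.2 ⟨⟨⟦pyMk Φ (Classical.arbitrary X)⟧⟩, inferInstance⟩)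
    have hQsum := orbits_le_sum Φ X (n := 1) fun y => by
      obtain ⟨v, hv, hv0⟩ := exists_dual_ne Φ X hF hq hsmall hmove y
      haveI : Nontrivial (dual (perpPairing Φ) y) := ⟨⟨⟨v, hv⟩, 0, fun h => hv0 (congrArg Subtype.val h :)⟩⟩
      exact Finite.one_lt_card
    rw [one_mul, hsum] at hQsum
    obtain ⟨r, rfl⟩ : ∃ r, q = r + 2 := ⟨q - 2, by omega⟩
    have hs1 : (r + 2) ^ 2 - 1 = (r + 1) * (r + 3) := by
      have : (r + 2) ^ 2 = (r + 1) * (r + 3) + 1 := by ring
      omega
    have hs2 : (r + 2) ^ 2 - (r + 2) = (r + 1) * (r + 2) := by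
      have : (r + 2) ^ 2 = (r + 1) * (r + 2) + (r + 2) := by ring
      omega
    rw [hs1, show r + 2 - 1 = r + 1 by omega] at hid
    rw [show r + 2 - 1 = r + 1 by omega] at hfew hab
    rw [hs1, hs2] at hQsum
    have hM2 : 2 * M ≤ 2 * (r + 1) := by
      rw [hab, mul_comm 2]; exact Nat.mul_le_mul_left _ (by omega)
    rcases Nat.eq_zero_or_pos j with rfl | hj0
    · simp only [mul_zero, add_zero] at hid hQsum
      rcases Nat.eq_zero_or_pos M with hM0 | hM0
      · have hL0 : L = 0 := by rw [hM0, mul_zero] at hid; exact hid.symm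
        rw [hL0, mul_zero] at hQsum
        omega
      by_cases h2 : (2 : F) = 0
      · haveI : CharP F 2 := CharTwo.of_one_ne_zero_of_two_eq_zero one_ne_zero h2
        have he := heven h2
        subst he
        have ha1 : a = 1 := by
          rcases Nat.eq_zero_or_pos a with rfl | h
          · simp at hab; omega
          · omega
        subst ha1
        have hMv : M = r + 1 := by omega
        rw [hMv] at hid hfew
        have hLv : L = (r + 2) ^ 2 - 1 := by rw [hs1, ← hid]; ring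
        have hbig := orbit_bound_even Φ hF hq hsmall hmove (fun v hv => hj v hv) hLv
        have h := orbits_le_sum Φ X (n := (r + 2) ^ 2 - 1) fun y => by
          have := hbig y
          have : 1 ≤ (r + 2) ^ 2 := Nat.one_le_pow _ _ (by omega)
          omega
        rw [hsum, hs1] at h
        simp only [mul_zero, add_zero] at h
        rw [← hid] at h
        have h' : fQ ≤ r + 3 := by
          refine Nat.le_of_mul_le_mul_left ?_ (show 0 < (r + 1) * (r + 3) from Nat.mul_pos (by omega) (by omega))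
          calc (r + 1) * (r + 3) * fQ ≤ _ := h
            _ = _ := by ring
        have hf' : (r + 2) * ((r + 2) ^ 2 + 1) ≤ fA := Nat.le_of_mul_le_mul_right (hfew.trans (le_of_eq (mul_comm _ _))) (by omega)
        nlinarith [h', hf', hle, hid, sq_nonneg (r : ℕ)]
      · have hq3 := hodd h2
        have h := orbits_le_sum Φ X (n := 2) fun y => by
          obtain ⟨v, hv, hv0⟩ := exists_dual_ne Φ X hF hq hsmall hmove y
          exact three_le_dual Φ h2 hv hv0
        rw [hsum] at h
        simp only [mul_zero, add_zero] at h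
        rw [← hid] at h
        have hle' : fA ≤ fQ + (r + 2 + 1) * M := hid ▸ hle
        have h1 : (r + 2) * ((r + 2) ^ 2 + 1) * 2 * M ≤ (r + 1) * ((r + 3) * (r + 3) + 2 * (r + 3)) * M := by
          nlinarith [Nat.mul_le_mul_left (r + 1) h, Nat.mul_le_mul_left (2 * (r + 1)) hle', hfew]
        have h1' := Nat.le_of_mul_le_mul_right h1 hM0
        nlinarith [h1', hq3]
    · -- only the smallest field
      have h1 : (r + 1) * ((r + 1) * (r + 3)) ≤ (r + 2 + 1) * M :=
        le_trans (by rw [mul_assoc]; exact Nat.le_mul_of_pos_right _ hj0 |>.trans (le_of_eq (mul_assoc _ _ _))) (hid.symm ▸ Nat.le_add_left _ _)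
      have h2 : (r + 2 + 1) * ((r + 1) * (r + 1)) ≤ (r + 2 + 1) * (r + 1) := by
        refine le_trans (le_of_eq ?_) (h1.trans (Nat.mul_le_mul_left _ (by omega)))
        ring
      have h3' : (r + 1) * (r + 1) ≤ (r + 1) * 1 := by
        rw [mul_one]; exact Nat.le_of_mul_le_mul_left h2 (by omega)
      have hr : r = 0 := by
        have := Nat.le_of_mul_le_mul_left h3' (by omega)
        omega
      subst hr
      norm_num at hid hfew hQsum hM2
      omega
  -- some class is large
  have hbig : 3 ≤ a + b ∧ ((2 : F) = 0 → 4 ≤ a + b) := by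
    simp only [Small, not_or, not_and, not_forall, not_le] at hsm
    by_cases h2 : (2 : F) = 0
    · obtain ⟨c, hc, hc0, hlt⟩ := hsm.2 h2
      have he := heven h2
      rcases hcl c hc hc0 with h | h <;> constructor <;> intros <;> omega
    · obtain ⟨c, hc, hc0, hlt⟩ := hsm.1 h2
      refine ⟨?_, fun h => absurd h h2⟩
      rcases hcl c hc hc0 with h | h <;> omega
  rcases Nat.lt_or_ge q 3 with hq3 | hq3
  · obtain rfl : q = 2 := by omega
    have h2 : (2 : F) = 0 := by
      by_contra h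
      have := hodd h
      omega
    have he := heven h2
    have h4 := hbig.2 h2
    norm_num at hab hlow hsmall
    have hab' : M = 2 := by omega
    have hb : ∀ ω : Orb (Tri C) (AY Φ X), 4 * nA Φ X (Quotient.out ω) ≤
        3 * Nat.card (dual (triPairing C) (Quotient.out ω)) := fun ω => nA_bound_two hF Φ (hnr _)
    have h := Finset.sum_le_sum fun ω (_ : ω ∈ Finset.univ) => hb ω
    rw [← Finset.mul_sum, ← Finset.mul_sum, hn, ← hk, hab'] at h
    norm_num at h
    omega
  obtain ⟨r, rfl⟩ : ∃ r, q = r + 3 := ⟨q - 3, by omega⟩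
  rw [show r + 3 - 1 = r + 2 by omega] at hab
  by_cases h4 : 4 ≤ a + b
  · have e1 : 4 * (r + 2) ≤ 2 * M := by rw [hab, mul_comm (r + 2)]; exact Nat.mul_le_mul_right _ h4
    nlinarith [Nat.mul_le_mul_left ((r + 3) * ((r + 3) ^ 2 + 1)) e1, hlow, hsmall, hfA1, sq_nonneg (r : ℕ)]
  have hm3 : a + b = 3 := by omega
  rw [hm3] at hab
  have h2 : (2 : F) ≠ 0 := fun h => by have := hbig.2 h; omega
  rcases Nat.eq_zero_or_pos r with rfl | hr
  swap
  · -- five or more
    have hr2 : 2 ≤ r ∨ r = 1 := by omega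
    rcases hr2 with hr2 | rfl
    · nlinarith [hlow, hsmall, hab, hfA1, Nat.mul_le_mul hr2 hr2]
    · norm_num at hlow hsmall hab
      omega
  -- nine elements
  norm_num at hab hlow hsmall
  have hM3 : M = 3 := by omega
  have hex : ∀ c, C.bar c = c → c ≠ 0 → c = 1 ∨ c = -1 := by
    intro c hc hc0
    rw [C.bar_eq] at hc
    have h : (c - 1) * (c + 1) = 0 := by
      have h' : c * (c ^ 2 - 1) = 0 := by linear_combination hc
      have := (mul_eq_zero.1 h').resolve_left hc0
      linear_combination this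
    rcases mul_eq_zero.1 h with h | h
    · exact Or.inl (sub_eq_zero.1 h)
    · exact Or.inr (eq_neg_of_add_eq_zero_left h)
  have hzero : ∀ ω : Orb (Tri C) (AY Φ X), 3 * nA Φ X (Quotient.out ω) ≤
      2 * Nat.card (dual (triPairing C) (Quotient.out ω)) := by
    intro ω
    refine nA_bound_three Φ h2 fun v hv y hy hv0 hy0 => ?_
    have hpv : ∀ d ∈ dual (triPairing C) (Quotient.out ω), disc d ≠ 0 → 1 ≤ classMult Φ X (disc d) := by
      intro d hd hd0
      rw [← multA_class hd0]
      exact Nat.one_le_iff_ne_zero.2 (Nat.card_ne_zero.2 ⟨⟨⟨ω, hd⟩⟩, inferInstance⟩)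
    have hv1 := hpv v hv hv0
    have hy1 := hpv y hy hy0
    simp only [Small, not_or, not_and, not_forall, not_le] at hsm
    obtain ⟨c, hc, hc0, hlt⟩ := hsm.1 h2
    by_contra hne
    rcases hex _ (disc_fixed v) hv0 with e1 | e1 <;> rcases hex _ (disc_fixed y) hy0 with e2 | e2 <;>
      rcases hex c hc hc0 with e3 | e3 <;> subst e3 <;> rw [e1] at hv1 hne <;> rw [e2] at hy1 hne
    all_goals first
      | exact absurd rfl hne
      | (rcases hcl 1 (map_one _) one_ne_zero with k1 | k1 <;>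
          rcases hcl (-1) (by rw [map_neg, map_one]) (neg_ne_zero.2 one_ne_zero) with k2 | k2 <;>
          rcases hex ca hca hca0 with k3 | k3 <;> rcases hex cb hcb hcb0 with k4 | k4 <;>
          subst k3 <;> subst k4 <;> omega)
  have h := Finset.sum_le_sum fun ω (_ : ω ∈ Finset.univ) => hzero ω
  rw [← Finset.mul_sum, ← Finset.mul_sum, hn, ← hk, hM3] at h
  norm_num at h
  omega

end CfsgLib.Perm.UnitFour
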