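import Cfsg.Agent.Lib.Perm.UnitFour.Counts
import Cfsg.Agent.Lib.Perm.UnitFour.Line

/-!
The case of an orbit on which the radical at a line is regular.
-/

set_option autoImplicit false
set_option linter.unusedSectionVars false

namespace CfsgLib.Perm.UnitFour

open scoped Matrix
open Matrix Module CfsgLib.SU CfsgLib.PGroup.UnitIndex

variable {F : Type*} [Field F] [Fintype F] {q : ℕ} {C : UCtx F q}
variable (Φ : QFrame C) {X : Type*} [MulAction ↥(Cfsg.SU 4 F q) X] [Finite X]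
variable (hF : Fintype.card F = q ^ 2) (hq : 2 ≤ q) (hsmall : Nat.card X < (q + 1) * (q ^ 3 + 1))
  (hmove : ∀ x : X, ∃ g : ↥(Cfsg.SU 4 F q), g • x ≠ x)

/-- A point whose dual has vanishing first and middle entries is fixed by the Eichler elements of the line. -/
theorem fix_of_dual (x : X) (h : ∀ d ∈ dual (triPairing C) (show AY Φ X from x), (d.1 : F) = 0 ∧ d.2.1 = 0)
    (a : F) {s : F} (hs : s ∈ zset C) : qel Φ.P (a • Φ.R.e) s • x = x := by
  classical
  let _ : Fintype (Tri C) := Fintype.ofFinite _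
  set St := AddAction.stabilizer (Tri C) (show AY Φ X from x) with hSt
  have hle : (triPairing C).ann St ≤ (triPairing C).ann (mSub C) := fun d hd => (mem_ann_mSub d).2 (h d hd)
  have heq : (triPairing C).ann (St ⊔ mSub C) = (triPairing C).ann St := by
    rw [(triPairing C).ann_sup]; exact inf_eq_left.2 hle
  have h1 := (triPairing C).card_ann (St ⊔ mSub C)
  rw [heq, (triPairing C).card_ann] at h1
  have h2 : St ⊔ mSub C = St := by
    refine (AddSubgroup.eq_of_le_of_card_ge le_sup_left (le_of_eq ?_)).symm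
    refine Nat.eq_of_mul_eq_mul_right (Nat.pos_of_ne_zero AddSubgroup.index_ne_zero_of_finite : 0 < St.index) ?_
    conv_lhs => rw [h1]
    rw [AddSubgroup.card_mul_index, AddSubgroup.card_mul_index]
  have hm : ((⟨s, hs⟩, a, 0) : Tri C) ∈ St := by
    rw [← h2]; exact AddSubgroup.mem_sup_right rfl
  have h3 : aEl Φ ((⟨s, hs⟩, a, 0) : Tri C) • x = x := hm
  rw [aEl_of_t_zero Φ rfl] at h3
  exact h3

include hF hq hsmall hmove

/-- No point has only singular characters unless all characters occur. -/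
theorem top_of_singular (hsing : ∀ x : AY Φ X, dual (triPairing C) x ≠ ⊤ →
      ∀ d ∈ dual (triPairing C) x, disc d = 0) (x : AY Φ X) : dual (triPairing C) x = ⊤ := by
  classical
  -- no point is fixed by the Eichler elements of the line
  have hM : ∀ x : X, ¬ ∀ d ∈ dual (triPairing C) (show AY Φ X from x), (d.1 : F) = 0 ∧ d.2.1 = 0 := by
    intro x hx
    have hfix := fix_of_dual Φ x hx
    obtain ⟨g, l, hg, hgw⟩ := exists_levi_line (Φ := Φ) Φ.hf Φ.R.f_ne_zero Φ.R.ff
    have hNl : l * C.bar l ≠ 0 := mul_ne_zero hg.ne_zero (by simpa using hg.ne_zero)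
    have hbl : C.bar l ≠ 0 := by simpa using hg.ne_zero
    have hz : ∀ t ∈ zset C, qel Φ.P 0 t • (g⁻¹ • x) = g⁻¹ • x := fun t ht => by
      obtain ⟨hz', he⟩ := conj_zero hg ht
      have h0 := hfix 0 hz'
      rw [zero_smul] at h0
      refine smul_left_cancel g ?_
      rw [← mul_smul, he, mul_smul, smul_inv_smul, h0]
    set x' : AY Φ X := (show AY Φ X from g⁻¹ • x) with hx'
    have hstab : ∀ z : zset C, ((z, 0, 0) : Tri C) ∈ AddAction.stabilizer (Tri C) x' := fun z => by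
      show aEl Φ (z, 0, 0) • (g⁻¹ • x) = g⁻¹ • x
      rw [aEl_of_zSub Φ (show ((z, 0, 0) : Tri C) ∈ zSub C from ⟨rfl, rfl⟩)]
      exact hz _ z.2
    have hne : dual (triPairing C) x' ≠ ⊤ := by
      rw [Ne, dual_eq_top_iff]
      intro hbot
      obtain ⟨δ, hδ0, hδ⟩ := C.exists_trace_zero
      have h1 := hstab ⟨δ, hδ⟩
      rw [hbot, AddSubgroup.mem_bot] at h1
      exact hδ0 (congrArg (fun d : Tri C => (d.1 : F)) h1)
    have hfix' := fix_of_dual Φ (g⁻¹ • x) (fun d hd => by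
      have ha : (d.1 : F) = 0 := (mem_ann_zSub d).1 fun H hH => by
        refine hd H ?_
        have := hstab H.1
        rwa [show ((H.1, 0, 0) : Tri C) = H from Prod.ext rfl (Prod.ext hH.1.symm (Subtype.ext hH.2.symm))] at this
      have h0 := hsing x' hne d hd
      rw [disc, ha, zero_mul, zero_add, mul_eq_zero] at h0
      exact ⟨ha, h0.elim id fun h => by simpa using h⟩)
    have hw : ∀ a : F, a • Φ.R.f ∈ wstab Φ.P x := by
      intro a
      obtain ⟨h1, h2⟩ := qel_conj Φ.P hg (qok_smul Φ (a / C.bar l) (zset C).zero_mem)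
      rw [Matrix.mulVec_smul, hgw, smul_smul, mul_div_cancel₀ _ hbl, mul_zero] at h1 h2
      refine ⟨0, h1, ?_⟩
      rw [← h2, mul_smul, mul_smul, hfix' (a / C.bar l) (zset C).zero_mem, smul_inv_smul]
    refine no_good hF hq hsmall hmove x Φ.P fun u t h => ?_
    have hu : u ∈ wstab Φ.P x := by
      rw [Φ.perp_decomp h.1]
      exact add_mem ⟨0, qok_smul Φ _ (zset C).zero_mem, hfix _ (zset C).zero_mem⟩ (hw _)
    obtain ⟨t', h', hxu⟩ := hu
    have e : qel Φ.P u t = qel Φ.P 0 (t - t') * qel Φ.P u t' := by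
      rw [qel_zero_mul Φ.P h' (qok_diff Φ.P h' h), add_sub_cancel]
    have h0 := hfix 0 (qok_diff Φ.P h' h)
    rw [zero_smul] at h0
    rw [e, mul_smul, hxu, h0]
  by_contra hx
  -- a character with non-zero first entry
  obtain ⟨d, hd, hd1⟩ : ∃ d ∈ dual (triPairing C) x, (d.1 : F) ≠ 0 := by
    by_contra hcon
    simp only [not_exists, not_and, not_not] at hcon
    refine hM x fun d hd => ⟨hcon d hd, ?_⟩
    have h0 := hsing x hx d hd
    rw [disc, hcon d hd, zero_mul, zero_add, mul_eq_zero] at h0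
    exact h0.elim id fun h => by simpa using h
  set r := C.bar (d.2.1 / d.1) with hr
  set s := ((Sym.up Φ r).comp ((Sym.up Φ 1).comp (Sym.low Φ (-1)))) with hs
  set d1 := (Sym.up Φ r).φ d with hd1def
  obtain ⟨h1, h2, -⟩ := up_φ (Φ := Φ) r d
  rw [← hd1def] at h1 h2
  have hm : d1.2.1 = 0 := by rw [h2, hr, C.bar_bar, mul_div_cancel₀ _ hd1, sub_self]
  have hb : (d1.2.2 : F) = 0 := by
    have h0 := hsing x hx d hd
    rw [← disc_up (Φ := Φ) r d, ← hd1def, disc, hm, zero_mul, add_zero, h1] at h0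
    exact (mul_eq_zero.1 h0).resolve_left hd1
  obtain ⟨k1, k2, k3⟩ := up_φ (Φ := Φ) 1 d1
  obtain ⟨j1, j2, j3⟩ := low_φ (Φ := Φ) (-1) ((Sym.up Φ 1).φ d1)
  have e1 : ((s.φ d).1 : F) = 0 := by
    rw [hs, Sym.comp_φ, Sym.comp_φ, ← hd1def, j1, k1, k2, k3, hm, hb]
    simp only [map_one, map_sub, map_mul, map_neg, map_zero, bar_zset d1.1.2]
    ring
  have e2 : (s.φ d).2.1 = 0 := by
    rw [hs, Sym.comp_φ, Sym.comp_φ, ← hd1def, j2, k2, k3, hm, hb]
    simp
  have e3 : ((s.φ d).2.2 : F) = d.1 := by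
    rw [hs, Sym.comp_φ, Sym.comp_φ, ← hd1def, j3, k3, hm, hb, h1]
    simp
  set x₁ : AY Φ X := s.perm.symm x with hx₁
  have hmem : ∀ d, d ∈ dual (triPairing C) x ↔ s.φ d ∈ dual (triPairing C) x₁ := fun d => by
    conv_lhs => rw [← s.perm.apply_symm_apply x]
    exact dual_map s.surj s.hp (π := s.perm) s.perm_vadd x₁ d
  have hx1 : dual (triPairing C) x₁ ≠ ⊤ := fun h => hx ((AddSubgroup.eq_top_iff' _).2 fun d => by
    rw [hmem, h]; exact AddSubgroup.mem_top _)
  refine hM (show X from x₁) fun d' hd' => ?_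
  have hsum := hsing x₁ hx1 _ (add_mem hd' ((hmem d).1 hd))
  have h0 := hsing x₁ hx1 d' hd'
  simp only [disc, Prod.fst_add, Prod.snd_add, AddSubgroup.coe_add, e1, e2, e3, add_zero] at hsum h0
  have ha : (d'.1 : F) = 0 := by
    have h3 : (d'.1 : F) * d.1 = 0 := by linear_combination hsum - h0
    exact (mul_eq_zero.1 h3).resolve_right hd1
  rw [ha, zero_mul, zero_add, mul_eq_zero] at h0
  exact ⟨ha, h0.elim id fun h => by simpa using h⟩

/-- There is no orbit on which the radical at the line is regular. -/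
theorem no_regular [Nonempty X] (x₀ : AY Φ X) : dual (triPairing C) x₀ ≠ ⊤ := by
  classical
  intro hx₀
  let _ : Fintype (Tri C) := Fintype.ofFinite _
  let _ : Fintype (Orb (Tri C) (AY Φ X)) := Fintype.ofFinite _
  let _ : Fintype Φ.P.perp := Fintype.ofFinite _
  set ω₀ : Orb (Tri C) (AY Φ X) := ⟦x₀⟧ with hω₀
  have hω : dual (triPairing C) (Quotient.out ω₀) = ⊤ := by rw [hω₀, dual_out, hx₀]
  have hc0 : Nat.card (dual (triPairing C) (Quotient.out ω₀)) = q ^ 4 := by
    rw [hω, AddSubgroup.card_top, card_tri hF]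
  set T := q * (q ^ 2 + 1) * (q - 1) with hT
  have hn0 : nA Φ X (Quotient.out ω₀) = T := by
    rw [hT, ← card_aniso (C := C) hF, nA, Finset.filter_true_of_mem fun d _ => by rw [hω]; exact AddSubgroup.mem_top _]
  have hk := card_eq_sum_dual Φ X
  rw [← Finset.add_sum_erase _ _ (Finset.mem_univ ω₀), hc0] at hk
  have hn := sum_nA Φ X hF
  rw [← Finset.add_sum_erase _ _ (Finset.mem_univ ω₀), hn0] at hn
  have hN : (q + 1) * (q ^ 3 + 1) = q ^ 4 + q * (q ^ 2 + 1) + 1 := by ring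
  have hsmall' : Nat.card X < q ^ 4 + q * (q ^ 2 + 1) + 1 := hN ▸ hsmall
  -- it is the only regular orbit
  have honly : ∀ ω, dual (triPairing C) (Quotient.out ω) = ⊤ → ω = ω₀ := by
    intro ω h
    by_contra hne
    have h1 := Finset.single_le_sum (f := fun ω => Nat.card (dual (triPairing C) (Quotient.out ω)))
      (fun _ _ => Nat.zero_le _) (Finset.mem_erase.2 ⟨hne, Finset.mem_univ ω⟩)
    rw [show Nat.card (dual (triPairing C) (Quotient.out ω)) = q ^ 4 by rw [h, AddSubgroup.card_top, card_tri hF]] at h1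
    have h2 : q * (q ^ 2 + 1) + 1 ≤ q ^ 4 := by
      have e : q * (q ^ 2 + 1) + 1 + q * 1 ≤ 2 * q ^ 3 + q := by nlinarith [Nat.pow_le_pow_left hq 3]
      have e' : 2 * q ^ 3 ≤ q ^ 4 := by
        calc 2 * q ^ 3 ≤ q * q ^ 3 := Nat.mul_le_mul_right _ hq
          _ = q ^ 4 := by ring
      linarith
    linarith
  obtain ⟨a, b, hab, hcl, ⟨ca, hca, hca0, hfa⟩, ⟨cb, hcb, hcb0, hfb⟩, -⟩ :=
    exists_classes (Φ := Φ) (X := X) hF hq
  have hpos : ∀ c, C.bar c = c → c ≠ 0 → 1 ≤ classMult Φ X c := fun c _ _ => by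
    refine le_trans ?_ (le_mult_of_top (triPairing C) ((0, normRoot C c, 0) : Tri C))
    exact Nat.one_le_iff_ne_zero.2 (Nat.card_ne_zero.2 ⟨⟨⟨ω₀, hω⟩⟩, inferInstance⟩)
  have ha1 : 1 ≤ a := hfa ▸ hpos ca hca hca0
  have hb1 : 1 ≤ b := hfb ▸ hpos cb hcb hcb0
  by_cases h3 : 3 ≤ a + b
  · -- too many points
    have hM : q ≤ classSum Φ X := by
      have := Nat.mul_le_mul_left (q - 1) h3
      omega
    have hle : ∀ ω ∈ Finset.univ.erase ω₀, nA Φ X (Quotient.out ω) ≤ Nat.card (dual (triPairing C) (Quotient.out ω)) :=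
      fun ω _ => (nA_lt Φ X (Quotient.out ω)).le
    have hne : (Finset.univ.erase ω₀).Nonempty := by
      rw [Finset.nonempty_iff_ne_empty]
      intro he
      rw [he, Finset.sum_empty, add_zero, hT] at hn
      have hp : 0 < q * (q ^ 2 + 1) := by positivity
      have := Nat.eq_of_mul_eq_mul_left hp hn
      omega
    have hlt := Finset.sum_lt_sum_of_nonempty hne fun ω (_ : ω ∈ Finset.univ.erase ω₀) => nA_lt Φ X (Quotient.out ω)
    have h4 : T + q * (q ^ 2 + 1) ≤ q * (q ^ 2 + 1) * classSum Φ X := by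
      refine le_trans (le_of_eq ?_) (Nat.mul_le_mul_left _ hM)
      rw [hT]
      obtain ⟨r, rfl⟩ : ∃ r, q = r + 1 := ⟨q - 1, by omega⟩
      rw [Nat.add_sub_cancel]
      ring
    omega
  -- only singular characters outside the regular orbit
  have hab2 : a + b = 2 := by omega
  have hM : classSum Φ X = q - 1 := by rw [hab2] at hab; omega
  have hzero : ∀ ω ∈ Finset.univ.erase ω₀, nA Φ X (Quotient.out ω) = 0 := by
    rw [hM, ← hT] at hn
    have hs : ∑ ω ∈ Finset.univ.erase ω₀, nA Φ X (Quotient.out ω) = 0 := by omega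
    exact fun ω hω => Finset.sum_eq_zero_iff.1 hs ω hω
  have hsing : ∀ x : AY Φ X, dual (triPairing C) x ≠ ⊤ → ∀ d ∈ dual (triPairing C) x, disc d = 0 := by
    intro x hx d hd
    by_contra hd0
    have h := hzero ⟦x⟧ (Finset.mem_erase.2 ⟨fun he => hx (by rw [← dual_out, he, hω]), Finset.mem_univ _⟩)
    rw [nA, dual_out, Finset.card_eq_zero] at h
    exact Finset.notMem_empty d (h ▸ Finset.mem_filter.2 ⟨Finset.mem_filter.2 ⟨Finset.mem_univ _, hd0⟩, hd⟩)
  have htop := top_of_singular Φ hF hq hsmall hmove hsing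
  have hone : ∀ ω : Orb (Tri C) (AY Φ X), ω = ω₀ := fun ω => honly ω (htop _)
  have hX : Nat.card X = q ^ 4 := by
    rw [hk, Finset.sum_eq_zero fun ω hω => ?_, add_zero]
    exact absurd (hone ω) (Finset.mem_erase.1 hω).1
  have hstab : ∀ x : AY Φ X, AddAction.stabilizer (Tri C) x = ⊥ := fun x =>
    (dual_eq_top_iff (triPairing C) x).1 (htop x)
  obtain ⟨j, hj, hid, hle, hsum⟩ := orbit_identities Φ X hF
  -- the orbits of the common subgroup
  have hmult : ∀ d : Tri C, mult (Y := AY Φ X) (triPairing C) d = 1 := fun d => by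
    rw [mult, Nat.card_eq_one_iff_unique]
    exact ⟨⟨fun u v => Subtype.ext ((hone u.1).trans (hone v.1).symm)⟩,
      ⟨⟨ω₀, by rw [hω]; exact AddSubgroup.mem_top d⟩⟩⟩
  have hMq : Nat.card (AddAction.orbitRel.Quotient (mSub C) (AY Φ X)) = q := by
    rw [norb_eq (triPairing C), Finset.sum_congr rfl (fun d _ => hmult d), Finset.sum_const, smul_eq_mul, mul_one,
      ← Fintype.card_subtype, ← Nat.card_eq_fintype_card]
    refine (Nat.card_congr
      { toFun := fun d => d.1.2.2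
        invFun := fun b => ⟨(0, 0, b), (mem_ann_mSub _).2 ⟨rfl, rfl⟩⟩
        left_inv := fun d => Subtype.ext (Prod.ext (Subtype.ext ((mem_ann_mSub _).1 d.2).1.symm)
          (Prod.ext ((mem_ann_mSub _).1 d.2).2.symm rfl))
        right_inv := fun b => rfl }).trans (card_zset hF)
  have hQ1 : 1 ≤ Nat.card (Orb Φ.P.perp (PY Φ X)) := by
    haveI : Nonempty (PY Φ X) := ⟨pyMk Φ (Classical.arbitrary X)⟩
    exact Nat.one_le_iff_ne_zero.2 (Nat.card_ne_zero.2 ⟨⟨⟦Classical.arbitrary _⟧⟩, inferInstance⟩)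
  have hline : Nat.card (Orb Φ.P.perp (PY Φ X)) + lineSum Φ X ≤ q := by
    refine le_trans ?_ hMq.le
    rw [norb_mSub, norb_eq (perpPairing Φ)]
    rw [← mult_zero (Y := PY Φ X) (perpPairing Φ)]
    set w : Φ.P.perp := ⟨Φ.R.e, Φ.he⟩ with hw
    have hsub : insert (0 : Φ.P.perp) ((Finset.univ.erase (0 : F)).image fun y => y • w) ⊆
        Finset.univ.filter (· ∈ (perpPairing Φ).ann (lineSub Φ)) := by
      intro v hv
      refine Finset.mem_filter.2 ⟨Finset.mem_univ _, (mem_ann_lineSub Φ v).2 ?_⟩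
      rcases Finset.mem_insert.1 hv with rfl | hv
      · exact zero_mem _
      · obtain ⟨y, -, rfl⟩ := Finset.mem_image.1 hv
        exact ⟨y, rfl⟩
    refine le_trans (le_of_eq ?_) (Finset.sum_le_sum_of_subset hsub)
    have hinj : ∀ y y' : F, y • w = y' • w → y = y' := fun y y' h =>
      smul_left_injective F Φ.R.e_ne_zero (congrArg Subtype.val h :)
    rw [Finset.sum_insert, Finset.sum_image fun y _ y' _ h => hinj y y' h]
    · rfl
    · intro h
      obtain ⟨y, hy, h⟩ := Finset.mem_image.1 h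
      exact (Finset.mem_erase.1 hy).1 (hinj y 0 (by rw [h, zero_smul]))
  rw [hM] at hid
  rcases Nat.eq_zero_or_pos j with rfl | hj0
  · rw [mul_zero, add_zero] at hid
    have h2q : 1 * (q + 1) ≤ (q - 1) * (q + 1) := Nat.mul_le_mul_right _ (by omega)
    rw [mul_comm (q - 1)] at h2q
    omega
  -- the smallest field
  have hq2 : q = 2 := by
    by_contra hne
    have h1 : (q - 1) * (q ^ 2 - 1) * 1 ≤ (q - 1) * (q ^ 2 - 1) * j := Nat.mul_le_mul_left _ hj0
    have h2 : q ^ 2 - 1 = (q + 1) * (q - 1) := by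
      rw [← Nat.sq_sub_sq, one_pow]
    rw [h2] at h1
    have h4 : (q - 1) * ((q + 1) * (q - 1)) * 1 = ((q + 1) * (q - 1)) * (q - 1) := by ring
    have h5 : (q + 1) * (q - 1) * 2 ≤ (q + 1) * (q - 1) * (q - 1) := Nat.mul_le_mul_left _ (by omega)
    have h6 : 0 < (q + 1) * (q - 1) := Nat.mul_pos (by omega) (by omega)
    rw [h2] at hid
    omega
  subst hq2
  haveI : CharP F 2 := by
    refine CharTwo.of_one_ne_zero_of_two_eq_zero one_ne_zero ?_
    have h4 : ((Fintype.card F : ℕ) : F) = 0 := FiniteField.cast_card_eq_zero F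
    rw [hF] at h4
    push_cast at h4
    exact (pow_eq_zero_iff two_ne_zero).1 (by linear_combination h4 : (2 : F) ^ 2 = 0)
  have hls : lineSum Φ X = 0 := by norm_num at hid; omega
  obtain ⟨x⟩ := ‹Nonempty X›
  have hzfix : ∀ t ∈ zfix Φ.P x, t = 0 := by
    intro t ht
    obtain ⟨ht, htx⟩ := (mem_zfix Φ.P).1 ht
    have h : ((⟨t, ht⟩, 0, 0) : Tri C) ∈ AddAction.stabilizer (Tri C) (show AY Φ X from x) := by
      show aEl Φ (⟨t, ht⟩, 0, 0) • x = x
      rw [aEl_of_zSub Φ (show ((⟨t, ht⟩, 0, 0) : Tri C) ∈ zSub C from ⟨rfl, rfl⟩)]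
      exact htx
    rw [hstab, AddSubgroup.mem_bot] at h
    exact congrArg (fun d : Tri C => (d.1 : F)) h
  have hb1 : Nat.card (zfix Φ.P x) = 1 := by
    rw [(eq_bot_iff.2 fun t ht => AddSubgroup.mem_bot.2 (hzfix t ht) : zfix Φ.P x = ⊥), AddSubgroup.card_bot]
  obtain ⟨w, hwx, hw0⟩ : ∃ w ∈ wstab Φ.P x, w ≠ 0 := by
    by_contra hcon
    simp only [not_exists, not_and, not_not, ne_eq] at hcon
    have ha1 : Nat.card (wstab Φ.P x) = 1 := by
      rw [(eq_bot_iff.2 fun t ht => AddSubgroup.mem_bot.2 (hcon t ht) : wstab Φ.P x = ⊥), AddSubgroup.card_bot]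
    have h := orbit_count Φ.P hF (fun _ : Unit => x) (fun _ _ _ _ => rfl) (fun _ => ha1) (fun _ => hb1)
    rw [natCard_perp, hF, Nat.card_unique, hX] at h
    norm_num at h
  have hwP := wstab_le Φ.P hwx
  have hiso : C.form w w = 0 := by
    obtain ⟨t, ht, htx⟩ := hwx
    have h := qel_mul Φ.P ht ht
    rw [show w + w = 0 by rw [← two_smul F w, CharTwo.two_eq_zero, zero_smul], CharTwo.add_self_eq_zero, zero_sub] at h
    refine neg_eq_zero.1 (hzfix _ ((mem_zfix Φ.P).2 ⟨?_, ?_⟩))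
    · rw [mem_zset, map_neg, C.form_self_fixed, CharTwo.add_self_eq_zero]
    · rw [← h, mul_smul, htx, htx]
  have hdual : (⟨w, hwP⟩ : Φ.P.perp) ∈ dual (perpPairing Φ) (pyMk Φ x) := by
    intro u hu
    obtain ⟨t, ht⟩ := qok_exists Φ.P u.2
    have hu' : (⟨u.1, ht.1⟩ : Φ.P.perp) +ᵥ pyMk Φ x = pyMk Φ x := hu
    rw [vadd_pyMk Φ ht, pyMk_eq] at hu'
    obtain ⟨z, hz, hz'⟩ := hu'
    have hus : u.1 ∈ wstab Φ.P x := by
      refine ⟨t + -z, ⟨u.2, ?_⟩, ?_⟩
      · rw [map_add]; linear_combination ht.2 + mem_zset.1 ((zset C).neg_mem hz)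
      · rw [← qel_zero_mul Φ.P ht ((zset C).neg_mem hz), mul_smul, ← hz', ← mul_smul,
          qel_zero_mul Φ.P (qok_zero Φ.P hz) ((zset C).neg_mem hz), add_neg_cancel, qel_zero, one_smul]
    show chi F (C.form w u.1 + C.form u.1 w) = 1
    rw [← CharTwo.sub_eq_add, hzfix _ (comm_mem_zfix Φ.P hwx hus), AddChar.map_zero_eq_one]
  have hmw : 1 ≤ multW Φ X ⟨w, hwP⟩ := by
    refine Nat.one_le_iff_ne_zero.2 (Nat.card_ne_zero.2 ⟨⟨⟨⟦pyMk Φ x⟧, ?_⟩⟩, inferInstance⟩)
    rw [dual_out]; exact hdual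
  rw [multW_iso (fun h => hw0 (congrArg Subtype.val h :)) hiso] at hmw
  rw [lineSum, Finset.sum_eq_zero_iff] at hls
  have h := hls 1 (by simp)
  rw [one_smul] at h
  omega

end CfsgLib.Perm.UnitFour
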