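import Cfsg.Agent.Lib.Perm.UnitFour.Regular

/-!
The case without a regular orbit of the radical at a line.
-/

set_option autoImplicit false
set_option linter.unusedSectionVars false

namespace CfsgLib.Perm.UnitFour

open scoped Matrix
open Matrix Module CfsgLib.SU CfsgLib.PGroup.UnitIndex

variable {F : Type*} [Field F] [Fintype F] {q : ℕ} {C : UCtx F q}
variable (Φ : QFrame C) {X : Type*} [MulAction ↥(Cfsg.SU 4 F q) X] [Finite X]

/-- A proper dual has few anisotropic members when the classes are small. -/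
theorem nA_le_line (hF : Fintype.card F = q ^ 2) (hsm : Small Φ X) [Fintype (Tri C)] {x : AY Φ X}
    (hx : dual (triPairing C) x ≠ ⊤) : nA Φ X x ≤ q - 1 := by
  classical
  rw [nA]
  rcases ((aniso C).filter fun d => d ∈ dual (triPairing C) x).eq_empty_or_nonempty with h | ⟨v, hv⟩
  · rw [h, Finset.card_empty]; exact Nat.zero_le _
  obtain ⟨hv0, hv⟩ := Finset.mem_filter.1 hv
  have hv0' : disc v ≠ 0 := (Finset.mem_filter.1 hv0).2
  refine le_trans (Finset.card_le_card (t := (fstar C).attach.image fun r => scl r.1 (mem_fstar.1 r.2).1 v) ?_)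
    (Finset.card_image_le.trans (le_of_eq (by rw [Finset.card_attach, card_fstar hF])))
  intro y hy
  obtain ⟨hy0, hy⟩ := Finset.mem_filter.1 hy
  have hy0' : disc y ≠ 0 := (Finset.mem_filter.1 hy0).2
  obtain ⟨r, hr, rfl⟩ := dual_line hsm hx hv hv0' hy hy0'
  have hr0 : r ≠ 0 := fun h => hy0' (by subst h; simp [disc, scl])
  exact Finset.mem_image.2 ⟨⟨r, mem_fstar.2 ⟨hr, hr0⟩⟩, Finset.mem_attach _ _, rfl⟩

/-- A bound on anisotropic members in the field with four elements. -/
theorem nA_bound_two (hF : Fintype.card F = 2 ^ 2) {C : UCtx F 2} (Φ : QFrame C) {X : Type*}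
    [MulAction ↥(Cfsg.SU 4 F 2) X] [Finite X] [Fintype (Tri C)] {x : AY Φ X}
    (hx : dual (triPairing C) x ≠ ⊤) : 4 * nA Φ X x ≤ 3 * Nat.card (dual (triPairing C) x) := by
  classical
  haveI : CharP F 2 := by
    refine CharTwo.of_one_ne_zero_of_two_eq_zero one_ne_zero ?_
    have h4 : ((Fintype.card F : ℕ) : F) = 0 := FiniteField.cast_card_eq_zero F
    rw [hF] at h4
    push_cast at h4
    exact (pow_eq_zero_iff two_ne_zero).1 (by linear_combination h4 : (2 : F) ^ 2 = 0)
  set S := dual (triPairing C) x with hS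
  have hdvd : Nat.card S ∣ 2 ^ 4 := card_tri (C := C) hF ▸ S.card_addSubgroup_dvd_card
  have hlt : Nat.card S < 2 ^ 4 := by
    refine lt_of_le_of_ne (Nat.le_of_dvd (by norm_num) hdvd) fun h => hx ?_
    exact AddSubgroup.eq_top_of_card_eq _ (h.trans (card_tri (C := C) hF).symm)
  have hnA := nA_lt Φ X x
  rw [← hS] at hnA
  have hcases : Nat.card S = 1 ∨ Nat.card S = 2 ∨ Nat.card S = 4 ∨ Nat.card S = 8 := by
    obtain ⟨i, hi, he⟩ := (Nat.dvd_prime_pow Nat.prime_two).1 hdvd
    rw [he] at hlt ⊢
    interval_cases i <;> simp_all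
  suffices h8 : Nat.card S = 8 → nA Φ X x ≤ 6 by
    rcases hcases with h | h | h | h <;> omega
  intro h8
  by_contra h7
  have hn : nA Φ X x = 7 := by omega
  have hall : ∀ d ∈ S, d ≠ 0 → disc d ≠ 0 := by
    intro d hd hd0
    by_contra hdd
    rw [nA] at hn
    have hsub : ((aniso C).filter fun d => d ∈ dual (triPairing C) x) ⊆
        (((Finset.univ : Finset (Tri C)).filter fun d => d ∈ dual (triPairing C) x).erase 0).erase d := by
      intro y hy
      obtain ⟨hy0, hy⟩ := Finset.mem_filter.1 hy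
      have hy0' : disc y ≠ 0 := (Finset.mem_filter.1 hy0).2
      simp only [Finset.mem_erase, Finset.mem_filter, Finset.mem_univ, true_and]
      exact ⟨fun h => hy0' (h ▸ hdd), fun h => hy0' (by rw [h]; simp [disc]), hy⟩
    have h := Finset.card_le_card hsub
    rw [Finset.card_erase_of_mem (Finset.mem_erase.2 ⟨hd0, Finset.mem_filter.2 ⟨Finset.mem_univ _, hd⟩⟩),
      Finset.card_erase_of_mem (Finset.mem_filter.2 ⟨Finset.mem_univ _, zero_mem _⟩),
      ← card_dual_filter, ← hS, h8, hn] at h
    omega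
  have hidx : S.index = 2 := by
    have h := S.card_mul_index
    rw [card_tri (C := C) hF, h8] at h
    omega
  obtain ⟨ω, hω0, hω1⟩ : ∃ ω : F, ω ≠ 0 ∧ ω ≠ 1 := by
    by_contra hcon
    simp only [not_exists, not_and, not_not] at hcon
    have h : (Finset.univ : Finset F) ⊆ {0, 1} := fun a _ => by
      simp only [Finset.mem_insert, Finset.mem_singleton]
      exact or_iff_not_imp_left.2 (hcon a)
    have h' := (Finset.card_le_card h).trans Finset.card_le_two
    rw [Finset.card_univ, hF] at h'
    omega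
  have hω3 : ω * ω * ω = 1 := by
    have h4 := FiniteField.pow_card ω
    rw [hF] at h4
    exact mul_left_cancel₀ hω0 (by rw [mul_one]; exact (show ω * (ω * ω * ω) = ω ^ 2 ^ 2 by ring).trans h4)
  have hω2 : ω * ω + ω + 1 = 0 := by
    have h : (ω - 1) * (ω * ω + ω + 1) = 0 := by linear_combination hω3
    exact (mul_eq_zero.1 h).resolve_left (sub_ne_zero.2 hω1)
  have hbar : C.bar ω = ω * ω := (C.bar_eq ω).trans (sq ω)
  have hbar' : C.bar (ω * ω) = ω := by rw [map_mul, hbar]; linear_combination ω * hω3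
  have h1z : (1 : F) ∈ zset C := mem_zset.2 (by rw [map_one, CharTwo.add_self_eq_zero])
  set o : zset C := ⟨1, h1z⟩ with ho
  have hout : ∀ d : Tri C, d ≠ 0 → disc d = 0 → d ∉ S := fun d h0 hd h => hall d h h0 hd
  have ho0 : o ≠ 0 := fun h => one_ne_zero (α := F) (congrArg Subtype.val h :)
  have hne1 : ∀ (β : F) (b : zset C), ((o, β, b) : Tri C) ≠ 0 := fun β b h => ho0 (congrArg Prod.fst h :)
  have e1 : ((o, 0, 0) : Tri C) ∉ S := hout _ (hne1 _ _) (by simp [disc])
  have e2 : ((0, 0, o) : Tri C) ∉ S :=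
    hout _ (fun h => ho0 (congrArg (fun d : Tri C => d.2.2) h :)) (by simp [disc])
  have e3 : ∀ β : F, β * C.bar β = 1 → ((o, β, o) : Tri C) ∉ S := fun β hβ =>
    hout _ (hne1 _ _) (by simp only [disc, ho, hβ, one_mul, CharTwo.add_self_eq_zero])
  have hadd := fun a b : Tri C => (AddSubgroup.add_mem_iff_of_index_two hidx (a := a) (b := b))
  have hin : ((o, 0, 0) : Tri C) + (0, 0, o) ∈ S := (hadd _ _).2 (by simp [e1, e2])
  have hsum : ((o, 1, o) : Tri C) + (o, ω, o) + (o, ω * ω, o) = (o, 0, 0) + (0, 0, o) := by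
    refine Prod.ext (Subtype.ext ?_) (Prod.ext ?_ (Subtype.ext ?_))
    · simp [ho, CharTwo.add_self_eq_zero]
    · simp only [Prod.snd_add, Prod.fst_add, add_zero]
      linear_combination hω2
    · simp [ho, CharTwo.add_self_eq_zero]
  have h12 : ((o, 1, o) : Tri C) + (o, ω, o) ∈ S := (hadd _ _).2 (by
    simp [e3 1 (by simp), e3 ω (by rw [hbar, ← mul_assoc, hω3])])
  rw [← hsum, hadd] at hin
  exact e3 (ω * ω) (by rw [hbar', hω3]) (hin.1 h12)

/-- A bound on anisotropic members in the field with nine elements when one class is empty. -/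
theorem nA_bound_three (h2 : (2 : F) ≠ 0) [Fintype (Tri C)] {x : AY Φ X}
    (hval : ∀ v ∈ dual (triPairing C) x, ∀ y ∈ dual (triPairing C) x, disc v ≠ 0 → disc y ≠ 0 → disc v = disc y) :
    3 * nA Φ X x ≤ 2 * Nat.card (dual (triPairing C) x) := by
  classical
  set A := (aniso C).filter fun d => d ∈ dual (triPairing C) x with hA
  set S := (Finset.univ : Finset (Tri C)).filter fun d => d ∈ dual (triPairing C) x with hS
  have hAS : A ⊆ S := fun d hd => Finset.mem_filter.2 ⟨Finset.mem_univ _, (Finset.mem_filter.1 hd).2⟩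
  have hsd : (S \ A).card = S.card - A.card := Finset.card_sdiff_of_subset hAS
  rw [card_dual_filter, nA, ← hA, ← hS]
  rcases A.eq_empty_or_nonempty with h | ⟨v, hv⟩
  · rw [h, Finset.card_empty]; omega
  obtain ⟨hv0, hvS⟩ := Finset.mem_filter.1 hv
  have hv0' : disc v ≠ 0 := (Finset.mem_filter.1 hv0).2
  -- the others map to singular members
  let g : Tri C → Tri C := fun y => if disc (y + v) = 0 then y + v else y - v
  have hg : ∀ y ∈ A.erase v, g y ∈ S \ A ∧ (y = g y - v ∨ y = g y + v) := by
    intro y hy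
    obtain ⟨-, hy⟩ := Finset.mem_erase.1 hy
    obtain ⟨hy0, hyS⟩ := Finset.mem_filter.1 hy
    have hy0' : disc y ≠ 0 := (Finset.mem_filter.1 hy0).2
    have hd : disc (y + v) + disc (y - v) = 2 * disc y + 2 * disc v := by
      simp only [disc, Prod.fst_add, Prod.snd_add, Prod.fst_sub, Prod.snd_sub, AddSubgroup.coe_add,
        AddSubgroup.coe_sub, map_add, map_sub]
      ring
    have he : disc y = disc v := hval y hyS v hvS hy0' hv0'
    by_cases h : disc (y + v) = 0
    · simp only [g, if_pos h]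
      exact ⟨Finset.mem_sdiff.2 ⟨Finset.mem_filter.2 ⟨Finset.mem_univ _, add_mem hyS hvS⟩,
        fun hh => (Finset.mem_filter.1 (Finset.mem_filter.1 hh).1).2 h⟩, Or.inl (add_sub_cancel_right y v).symm⟩
    · simp only [g, if_neg h]
      refine ⟨Finset.mem_sdiff.2 ⟨Finset.mem_filter.2 ⟨Finset.mem_univ _, sub_mem hyS hvS⟩, fun hh => ?_⟩,
        Or.inr (sub_add_cancel y v).symm⟩
      have h1 := hval _ (add_mem hyS hvS) v hvS h hv0'
      have h2' : disc (y - v) = disc v :=
        hval _ (sub_mem hyS hvS) v hvS (Finset.mem_filter.1 (Finset.mem_filter.1 hh).1).2 hv0'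
      rw [h1, h2', he] at hd
      have : (2 : F) * disc v = 0 := by linear_combination -hd
      exact mul_ne_zero h2 hv0' this
  have h1 : (A.erase v).card ≤ 2 * (S \ A).card := by
    refine (Finset.card_le_card (t := (S \ A).biUnion fun z => {z - v, z + v}) fun y hy => ?_).trans ?_
    · obtain ⟨h, h'⟩ := hg y hy
      refine Finset.mem_biUnion.2 ⟨g y, h, ?_⟩
      simp only [Finset.mem_insert, Finset.mem_singleton]
      exact h'
    · refine Finset.card_biUnion_le.trans (le_of_le_of_eq (Finset.sum_le_card_nsmul _ _ _ fun z _ => Finset.card_le_two) ?_)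
      rw [smul_eq_mul, mul_comm]
  rw [Finset.card_erase_of_mem hv, hsd] at h1
  have h0 : 0 < S.card - A.card := by
    rw [← hsd]
    exact Finset.card_pos.2 ⟨0, Finset.mem_sdiff.2 ⟨Finset.mem_filter.2 ⟨Finset.mem_univ _, zero_mem _⟩,
      fun hh => (Finset.mem_filter.1 (Finset.mem_filter.1 hh).1).2 (by simp [disc])⟩⟩
  -- the member `v` itself is singular after doubling or cancelling
  have hvv : disc (v + v) = 4 * disc v := by
    simp only [disc, Prod.fst_add, Prod.snd_add, AddSubgroup.coe_add, map_add]; ring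
  by_cases h : disc (v + v) = 0
  · rw [hvv] at h
    exact absurd h (mul_ne_zero (fun h4 => h2 ((pow_eq_zero_iff two_ne_zero).1 (by linear_combination h4 : (2 : F) ^ 2 = 0))) hv0')
  · have h3 := hval _ (add_mem hvS hvS) v hvS h hv0'
    rw [hvv] at h3
    have h3' : (3 : F) * disc v = 0 := by linear_combination h3
    have hne : (-v) ∈ A.erase v := by
      refine Finset.mem_erase.2 ⟨fun he => h2 ?_, Finset.mem_filter.2 ⟨Finset.mem_filter.2 ⟨Finset.mem_univ _, ?_⟩, neg_mem hvS⟩⟩
      · have hdd : disc (v + v) = 0 := by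
          conv_lhs => arg 1; arg 1; rw [← he]
          rw [neg_add_cancel]; simp [disc]
        rw [hvv] at hdd
        have := (mul_eq_zero.1 hdd).resolve_right hv0'
        exact (pow_eq_zero_iff two_ne_zero).1 (by linear_combination this : (2 : F) ^ 2 = 0)
      · simp only [disc, Prod.fst_neg, Prod.snd_neg, AddSubgroup.coe_neg, map_neg, neg_mul_neg]
        exact hv0'
    have hzero : g (-v) = 0 := by simp [g, disc]
    -- zero has only one preimage besides `v`
    have h4 : ((A.erase v).filter fun y => g y = 0).card ≤ 1 := by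
      refine Finset.card_le_one.2 fun a ha b hb => ?_
      obtain ⟨ha', hag⟩ := Finset.mem_filter.1 ha
      obtain ⟨hb', hbg⟩ := Finset.mem_filter.1 hb
      have hav := (hg a ha').2
      have hbv := (hg b hb').2
      rw [hag, zero_sub, zero_add] at hav
      rw [hbg, zero_sub, zero_add] at hbv
      rw [hav.resolve_right (Finset.mem_erase.1 ha').1, hbv.resolve_right (Finset.mem_erase.1 hb').1]
    have h5 : ((A.erase v).filter fun y => ¬ g y = 0).card ≤ 2 * (((S \ A).erase 0).card) := by
      refine (Finset.card_le_card (t := ((S \ A).erase 0).biUnion fun z => {z - v, z + v}) fun y hy => ?_).trans ?_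
      · obtain ⟨hy', hyg⟩ := Finset.mem_filter.1 hy
        obtain ⟨hh, h'⟩ := hg y hy'
        refine Finset.mem_biUnion.2 ⟨g y, Finset.mem_erase.2 ⟨hyg, hh⟩, ?_⟩
        simp only [Finset.mem_insert, Finset.mem_singleton]
        exact h'
      · refine Finset.card_biUnion_le.trans (le_of_le_of_eq (Finset.sum_le_card_nsmul _ _ _ fun z _ => Finset.card_le_two) ?_)
        rw [smul_eq_mul, mul_comm]
    have h6 := Finset.card_filter_add_card_filter_not (s := A.erase v) (fun y => g y = 0)
    have h7 : ((S \ A).erase 0).card = (S \ A).card - 1 := Finset.card_erase_of_mem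
      (Finset.mem_sdiff.2 ⟨Finset.mem_filter.2 ⟨Finset.mem_univ _, zero_mem _⟩,
        fun hh => (Finset.mem_filter.1 (Finset.mem_filter.1 hh).1).2 (by simp [disc])⟩)
    rw [h7, hsd] at h5
    rw [Finset.card_erase_of_mem hv] at h6
    have h8 := Finset.card_le_card hAS
    omega

end CfsgLib.Perm.UnitFour
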